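import Mathlib.AlgebraicGeometry.PullbackCarrier
import Mathlib.AlgebraicGeometry.Stalk
import Mathlib.AlgebraicGeometry.Fiber
import Mathlib.AlgebraicGeometry.Morphisms.Flat
import Mathlib.AlgebraicGeometry.Morphisms.Preimmersion
import Mathlib.RingTheory.RingHom.FaithfullyFlat
import Mathlib.RingTheory.Flat.Localization

/-!
Stalks of localised schemes and of fibres.
-/

universe u

open AlgebraicGeometry CategoryTheory Limits

namespace Groth.Agent.Props12

instance flat_fromSpecStalk {Y : Scheme.{u}} (y : Y) : Flat (Y.fromSpecStalk y) := by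
  obtain ⟨_, ⟨(U : Y.Opens), hU, rfl⟩, hyU, -⟩ :=
    Y.isBasis_affineOpens.exists_subset_of_mem_open (Set.mem_univ y) isOpen_univ
  rw [← hU.fromSpecStalk_eq_fromSpecStalk hyU, IsAffineOpen.fromSpecStalk]
  have : Flat (Spec.map (Y.presheaf.germ U y hyU)) := by
    rw [Flat.SpecMap_iff]
    let := Y.presheaf.algebra_section_stalk ⟨y, hyU⟩
    have := hU.isLocalization_stalk ⟨y, hyU⟩
    exact IsLocalization.flat (Y.presheaf.stalk y) (hU.primeIdealOf ⟨y, hyU⟩).asIdeal.primeCompl
  infer_instance

theorem isIso_stalkMap_fst {X Y : Scheme.{u}} (f : X ⟶ Y) (y : Y)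
    (t : ↑(pullback f (Y.fromSpecStalk y))) :
    IsIso ((pullback.fst f (Y.fromSpecStalk y)).stalkMap t) := by
  have : IsPreimmersion (pullback.fst f (Y.fromSpecStalk y)) :=
    MorphismProperty.pullback_fst _ _ inferInstance
  rw [ConcreteCategory.isIso_iff_bijective]
  refine ⟨?_, (pullback.fst f (Y.fromSpecStalk y)).stalkMap_surjective t⟩
  have hflat := Flat.stalkMap (pullback.fst f (Y.fromSpecStalk y)) t
  let := ((pullback.fst f (Y.fromSpecStalk y)).stalkMap t).hom.toAlgebra
  have : IsLocalHom (algebraMap (X.presheaf.stalk (pullback.fst f (Y.fromSpecStalk y) t))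
      ((pullback f (Y.fromSpecStalk y)).presheaf.stalk t)) :=
    inferInstanceAs (IsLocalHom ((pullback.fst f (Y.fromSpecStalk y)).stalkMap t).hom)
  have : Module.Flat (X.presheaf.stalk (pullback.fst f (Y.fromSpecStalk y) t))
      ((pullback f (Y.fromSpecStalk y)).presheaf.stalk t) := hflat
  have := Module.FaithfullyFlat.of_flat_of_isLocalHom
    (A := X.presheaf.stalk (pullback.fst f (Y.fromSpecStalk y) t))
    (B := (pullback f (Y.fromSpecStalk y)).presheaf.stalk t)
  exact FaithfulSMul.algebraMap_injective (X.presheaf.stalk (pullback.fst f (Y.fromSpecStalk y) t))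
    ((pullback f (Y.fromSpecStalk y)).presheaf.stalk t)

theorem stalkMap_fiberι {X S : Scheme.{u}} (f : X ⟶ S) (s : S) (y : ↥(f.fiber s)) :
    Function.Surjective ((f.fiberι s).stalkMap y).hom ∧
      RingHom.ker ((f.fiberι s).stalkMap y).hom =
        Ideal.map (f.stalkMap ((f.fiberι s).base y)).hom
          (IsLocalRing.maximalIdeal (S.presheaf.stalk (f.base ((f.fiberι s).base y)))) := by
  refine ⟨(f.fiberι s).stalkMap_surjective y, ?_⟩
  have hs : f (f.fiberι s y) = s := (f.range_fiberι s).le ⟨y, rfl⟩
  set x := f.fiberι s y with hx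
  set I := Ideal.map (f.stalkMap x).hom (IsLocalRing.maximalIdeal (S.presheaf.stalk (f x)))
  apply le_antisymm
  · intro a ha
    have hI : I ≤ IsLocalRing.maximalIdeal (X.presheaf.stalk x) :=
      Ideal.map_le_iff_le_comap.mpr fun b hb ↦ map_nonunit (f.stalkMap x).hom b hb
    have : Nontrivial (X.presheaf.stalk x ⧸ I) :=
      Ideal.Quotient.nontrivial_iff.mpr fun h ↦
        (IsLocalRing.maximalIdeal.isMaximal (X.presheaf.stalk x)).ne_top (top_le_iff.mp (h ▸ hI))
    have : IsLocalRing (X.presheaf.stalk x ⧸ I) :=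
      IsLocalRing.of_surjective' (Ideal.Quotient.mk I) Ideal.Quotient.mk_surjective
    let q : X.presheaf.stalk x ⟶ CommRingCat.of (X.presheaf.stalk x ⧸ I) :=
      CommRingCat.ofHom (Ideal.Quotient.mk I)
    have : IsLocalHom q.hom := IsLocalHom.of_surjective (Ideal.Quotient.mk I)
      Ideal.Quotient.mk_surjective
    let κ : S.residueField (f x) ⟶ CommRingCat.of (X.presheaf.stalk x ⧸ I) :=
      CommRingCat.ofHom (Ideal.Quotient.lift (IsLocalRing.maximalIdeal (S.presheaf.stalk (f x)))
        ((Ideal.Quotient.mk I).comp (f.stalkMap x).hom)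
        (fun b hb ↦ Ideal.Quotient.eq_zero_iff_mem.mpr (Ideal.mem_map_of_mem _ hb)))
    let g : Spec (CommRingCat.of (X.presheaf.stalk x ⧸ I)) ⟶ f.fiber s :=
      pullback.lift (Spec.map q ≫ X.fromSpecStalk x)
        (Spec.map κ ≫ Spec.map (S.residueFieldCongr hs.symm).hom) (by
        rw [Category.assoc, ← Scheme.SpecMap_stalkMap_fromSpecStalk, ← Spec.map_comp_assoc]
        rw [Category.assoc, Scheme.residueFieldCongr_fromSpecResidueField,
          Scheme.fromSpecResidueField, ← Spec.map_comp_assoc]
        rfl)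
    have hg : g ≫ f.fiberι s = Spec.map q ≫ X.fromSpecStalk x := pullback.lift_fst _ _ _
    have hgy : g (IsLocalRing.closedPoint _) = y := by
      apply (f.fiberι s).isEmbedding.injective
      rw [← Scheme.Hom.comp_apply, hg, Scheme.Hom.comp_apply, Spec_closedPoint,
        Scheme.fromSpecStalk_closedPoint]
    -- compare the two maps to the quotient
    have hrec := Scheme.Spec_stalkClosedPointTo_fromSpecStalk g
    have h2 : Spec.map (q) ≫ X.fromSpecStalk x =
        Spec.map (((f.fiberι s).stalkMap y) ≫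
          ((f.fiber s).presheaf.stalkCongr (Inseparable.of_eq hgy.symm)).hom ≫
            Scheme.stalkClosedPointTo g) ≫ X.fromSpecStalk x := by
      rw [← hg]
      conv_lhs => rw [← hrec]
      rw [Spec.map_comp, Spec.map_comp, Category.assoc, Category.assoc]
      have e1 : Spec.map ((f.fiber s).presheaf.stalkCongr (Inseparable.of_eq hgy.symm)).hom ≫
          (f.fiber s).fromSpecStalk y = (f.fiber s).fromSpecStalk _ :=
        Scheme.SpecMap_stalkSpecializes_fromSpecStalk (Inseparable.of_eq hgy.symm).ge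
      have e2 : Spec.map ((f.fiberι s).stalkMap y) ≫ X.fromSpecStalk x =
          (f.fiber s).fromSpecStalk y ≫ f.fiberι s := Scheme.SpecMap_stalkMap_fromSpecStalk _
      rw [Category.assoc, e2, reassoc_of% e1]
    rw [cancel_mono] at h2
    have h3 := ConcreteCategory.congr_hom (Spec.map_injective h2) a
    refine Ideal.Quotient.eq_zero_iff_mem.mp (h3.trans ?_)
    rw [ConcreteCategory.comp_apply, show ((f.fiberι s).stalkMap y) a = 0 from ha, map_zero]
  · rw [Ideal.map_le_iff_le_comap]
    intro b hb
    have hfac : f.fiberι s ≫ f = (f.fiberToSpecResidueField s ≫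
        Spec.map (S.residueFieldCongr hs).hom) ≫ S.fromSpecResidueField (f x) := by
      rw [Category.assoc, Scheme.residueFieldCongr_fromSpecResidueField]
      exact pullback.condition
    have h1 : Spec.map (f.stalkMap x ≫ (f.fiberι s).stalkMap y) ≫ S.fromSpecStalk (f x) =
        (f.fiber s).fromSpecStalk y ≫ (f.fiberToSpecResidueField s ≫
          Spec.map (S.residueFieldCongr hs).hom) ≫
          Spec.map (S.residue (f x)) ≫ S.fromSpecStalk (f x) := by
      rw [Spec.map_comp, Category.assoc, Scheme.SpecMap_stalkMap_fromSpecStalk,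
        reassoc_of% (Scheme.SpecMap_stalkMap_fromSpecStalk (f.fiberι s) (x := y)), hfac]
      rfl
    rw [← Category.assoc ((f.fiber s).fromSpecStalk y),
      ← Category.assoc (_ ≫ _), cancel_mono] at h1
    obtain ⟨ψ, hψ⟩ := Spec.homEquiv.symm.surjective ((f.fiber s).fromSpecStalk y ≫
      f.fiberToSpecResidueField s ≫ Spec.map (S.residueFieldCongr hs).hom)
    rw [← hψ] at h1
    have h2 := Spec.map_injective (h1.trans (Spec.map_comp _ _).symm)
    have h3 := ConcreteCategory.congr_hom h2 b
    refine h3.trans ?_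
    rw [ConcreteCategory.comp_apply, show S.residue (f x) b = 0 from
      Ideal.Quotient.eq_zero_iff_mem.mpr hb, map_zero]

end Groth.Agent.Props12
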