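import Mathlib.AlgebraicGeometry.Noetherian
import Mathlib.AlgebraicGeometry.FunctionField

/-!
Irreducible components of schemes with integral local rings.
-/

universe u

open AlgebraicGeometry CategoryTheory TopologicalSpace

namespace Groth.Agent.Props12

variable {X : Scheme.{u}}

/-- Through a point with integral local ring passes exactly one irreducible component. -/
lemma component_unique_of_isDomain {x : X} [IsDomain (X.presheaf.stalk x)] {Z Z' : Set X}
    (hZ : Z ∈ irreducibleComponents X) (hZ' : Z' ∈ irreducibleComponents X) (hx : x ∈ Z)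
    (hx' : x ∈ Z') : Z = Z' := by
  set ξ := X.fromSpecStalk x (⊥ : PrimeSpectrum (X.presheaf.stalk x)) with hξ
  have key : ∀ C ∈ irreducibleComponents X, x ∈ C → C = closure {ξ} := by
    intro C hC hxC
    obtain ⟨η, hη⟩ : ∃ η, IsGenericPoint η C :=
      QuasiSober.sober hC.1 (isClosed_of_mem_irreducibleComponents C hC)
    have hr : Set.range (X.fromSpecStalk x) = {z : X | z ⤳ x} := Scheme.range_fromSpecStalk
    obtain ⟨p, hp⟩ := hr.ge (hη.specializes hxC)
    have hs : ξ ⤳ η := by
      rw [← hp]
      exact ((PrimeSpectrum.le_iff_specializes (⊥ : PrimeSpectrum (X.presheaf.stalk x)) p).mp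
        bot_le).map (X.fromSpecStalk x).continuous
    have hle : C ⊆ closure {ξ} := by
      rw [← hη.def]
      exact closure_minimal (Set.singleton_subset_iff.mpr (specializes_iff_mem_closure.mp hs))
        isClosed_closure
    exact Set.Subset.antisymm hle (hC.2 isIrreducible_singleton.closure hle)
  rw [key Z hZ hx, key Z' hZ' hx']

/-- If local rings are domains and every point has a neighbourhood meeting only finitely many
components then components are open. -/
lemma isOpen_component (hX : ∀ x : X, IsDomain (X.presheaf.stalk x))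
    (hfin : ∀ x : X, ∃ W : X.Opens, x ∈ W ∧
      {C ∈ irreducibleComponents X | (C ∩ (W : Set X)).Nonempty}.Finite)
    {Z : Set X} (hZ : Z ∈ irreducibleComponents X) : IsOpen Z := by
  rw [isOpen_iff_forall_mem_open]
  intro x hx
  obtain ⟨W, hxW, hW⟩ := hfin x
  refine ⟨(W : Set X) ∩ (⋃ C ∈ {C ∈ irreducibleComponents X | (C ∩ (W : Set X)).Nonempty} \ {Z}, C)ᶜ,
    ?_, W.2.inter ?_, hxW, ?_⟩
  · rintro y ⟨hyW, hy⟩
    by_contra hyZ
    obtain ⟨C, hC, hyC⟩ : y ∈ ⋃₀ irreducibleComponents X := by
      rw [sUnion_irreducibleComponents]; trivial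
    exact hy (Set.mem_biUnion ⟨⟨hC, y, hyC, hyW⟩, fun h ↦ hyZ (h ▸ hyC)⟩ hyC)
  · exact ((hW.subset Set.sdiff_subset).isClosed_biUnion fun C hC ↦
      isClosed_of_mem_irreducibleComponents C hC.1.1).isOpen_compl
  · intro hmem
    obtain ⟨C, hC, hxC⟩ := Set.mem_iUnion₂.mp hmem
    have := hX x
    exact hC.2 (component_unique_of_isDomain hC.1.1 hZ hxC hx)

end Groth.Agent.Props12
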