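import Groth.Agent.EGA43.FPKernel
import Groth.Agent.QCohLoc.Basic
import Groth.Prelude.Def_FlatMod2
import Mathlib.RingTheory.Localization.Free
import Mathlib.RingTheory.Flat.Localization
import Mathlib.RingTheory.LocalRing.Module
import Mathlib.LinearAlgebra.Dimension.OrzechProperty
import Mathlib.Topology.LocallyConstant.Basic

/-!
# Finite locally free modules on schemes
-/

set_option autoImplicit false
set_option backward.isDefEq.respectTransparency false

universe u

open CategoryTheory CategoryTheory.Limits AlgebraicGeometry Opposite TopologicalSpace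
open Groth.Agent.Coherent

namespace Groth.Agent.Props12

variable {X : Scheme.{u}}

/-- Sections that agree near every point are equal. -/
theorem eq_of_nhds (M : X.Modules) {V : X.Opens} (a b : Γ(M, V))
    (h : ∀ y ∈ V, ∃ (W : X.Opens) (hW : W ≤ V), y ∈ W ∧ resM M hW a = resM M hW b) : a = b := by
  choose W hW hy e using h
  exact TopCat.Sheaf.eq_of_locally_eq' (X := X.toTopCat) (Coh.toAb M)
    (fun y : V => W y.1 y.2) V (fun y => homOfLE (hW y.1 y.2))
    (fun y hyV => Opens.mem_iSup.2 ⟨⟨y, hyV⟩, hy y hyV⟩) a b (fun y => e y.1 y.2)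

/-- A map of quasi-coherent modules on an affine scheme bijective on global sections is an
isomorphism. -/
theorem isIso_of_bijective_top [IsAffine X] {M N : X.Modules} [Coh.IsQCoh M] [Coh.IsQCoh N]
    (φ : M ⟶ N) (h : Function.Bijective (φ.app ⊤)) : IsIso φ := by
  have hX := isAffineOpen_top X
  have : Mono φ := ⟨fun g g' hgg => by
    refine Scheme.Modules.hom_ext _ _ fun V => ?_
    ext z
    refine eq_of_nhds M _ _ fun y hy => ?_
    obtain ⟨f, hfV, hyf⟩ := hX.exists_basicOpen_le ⟨y, hy⟩ trivial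
    refine ⟨_, hfV, hyf, sub_eq_zero.1 ?_⟩
    have hd : φ.app _ (resM M hfV (g.app V z) - resM M hfV (g'.app V z)) = 0 := by
      rw [map_sub, app_resM, app_resM, sub_eq_zero]
      exact congrArg (resM N hfV) (congr((Scheme.Modules.Hom.app $hgg V) z))
    generalize resM M hfV (g.app V z) - resM M hfV (g'.app V z) = d at hd ⊢
    obtain ⟨n, t, ht⟩ := qcoh_exists_pow_smul hX M f d
    obtain ⟨m, hm⟩ := qcoh_exists_pow_smul_eq_zero hX N f (φ.app ⊤ t) (by
      rw [← app_resM, ht, Scheme.Modules.Hom.app_smul, hd, smul_zero])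
    have h0 : f ^ m • t = 0 := h.1 (by
      rw [Scheme.Modules.Hom.app_smul, hm, map_zero])
    have h1 := congrArg (resM M (X.basicOpen_le f)) h0
    rw [resM_smul, ht, smul_smul, map_zero] at h1
    exact (((isUnit_res_pow f (X.basicOpen_le f) le_rfl m).mul
      (isUnit_res_pow f (X.basicOpen_le f) le_rfl n)).smul_eq_zero).1 h1⟩
  have : Epi φ := epi_of_locally_surjective φ fun W a y hy => by
    obtain ⟨f, hfW, hyf⟩ := hX.exists_basicOpen_le ⟨y, hy⟩ trivial
    obtain ⟨n, t, ht⟩ := qcoh_exists_pow_smul hX N f (resM N hfW a)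
    obtain ⟨b, rfl⟩ := h.2 t
    obtain ⟨c, hc⟩ := (isUnit_res_pow f (X.basicOpen_le f) le_rfl n).exists_left_inv
    refine ⟨_, hfW, hyf, c • resM M (X.basicOpen_le f) b, ?_⟩
    rw [Scheme.Modules.Hom.app_smul, app_resM, ht, smul_smul, hc, one_smul]
  exact isIso_of_mono_of_epi φ

/-- The two finite free modules agree. -/
noncomputable def freeModIso (X : Scheme.{u}) (n : ℕ) :
    Coherent.freeMod X (ULift.{u} (Fin n)) ≅ FlatMod.freeMod X n :=
  (SheafOfModules.isColimitFreeCofan (R := X.ringCatSheaf) (ULift.{u} (Fin n))).coconePointUniqueUpToIso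
      (coproductIsCoproduct fun _ : ULift.{u} (Fin n) => Coh.structureModule X) ≪≫
    Sigma.whiskerEquiv (f := fun _ : ULift.{u} (Fin n) => Coh.structureModule X)
      (g := fun _ : Fin n => Coh.structureModule X) Equiv.ulift fun _ => Iso.refl _

/-- On an affine scheme a basis of global sections trivialises a quasi-coherent module. -/
theorem exists_iso_freeMod_of_basis [IsAffine X] (M : X.Modules) [Coh.IsQCoh M] {n : ℕ}
    (b : Module.Basis (Fin n) Γ(X, ⊤) Γ(M, ⊤)) : Nonempty (M ≅ FlatMod.freeMod X n) := by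
  classical
  let b' := b.reindex (Equiv.ulift.{u}.symm)
  let φ := freeDesc fun i => unitDesc M (b' i)
  have := isQCoh_freeMod (X := X) (I := ULift.{u} (Fin n))
  have hval : ∀ a, φ.app ⊤ a = b'.equivFun.symm (freeSectionsEquiv ⊤ a) := fun a => by
    rw [freeMod_app, Module.Basis.equivFun_symm_apply]
    refine Finset.sum_congr rfl fun i _ => ?_
    rw [freeInj_freeDesc, unitVal_unitDesc]
    congr 1
    exact ConcreteCategory.congr_hom (M.presheaf.map_id _) _
  have : IsIso φ := isIso_of_bijective_top φ (by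
    rw [show ⇑(φ.app ⊤) = _ from funext hval]
    exact b'.equivFun.symm.bijective.comp (freeSectionsEquiv ⊤).bijective)
  exact ⟨(asIso φ).symm ≪≫ freeModIso X n⟩

/-- Sections of a module on an open, seen on the open subscheme. -/
theorem exists_basis_restrict_top (M : X.Modules) (U : X.Opens) {ι : Type*}
    (b : Module.Basis ι Γ(X, U) Γ(M, U)) :
    Nonempty (Module.Basis ι Γ(U.toScheme, ⊤) Γ(M.restrict U.ι, ⊤)) := by
  obtain ⟨b'⟩ : Nonempty (Module.Basis ι Γ(X, U.ι ''ᵁ ⊤) Γ(M, U.ι ''ᵁ ⊤)) := by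
    rw [Scheme.Opens.ι_image_top]; exact ⟨b⟩
  let _ := Module.compHom Γ(M.restrict U.ι, ⊤) (U.ι.appIso ⊤).hom.hom
  let l : Γ(M, U.ι ''ᵁ ⊤) ≃ₗ[Γ(X, U.ι ''ᵁ ⊤)] Γ(M.restrict U.ι, ⊤) :=
    { (M.restrictAppIso U.ι ⊤).addCommGroupIsoToAddEquiv.symm with
      map_smul' := fun r m => by
        apply (M.restrictAppIso U.ι ⊤).addCommGroupIsoToAddEquiv.injective
        change (M.restrictAppIso U.ι _).hom ((M.restrictAppIso U.ι _).inv (r • m)) =
          (M.restrictAppIso U.ι _).hom
            ((U.ι.appIso ⊤).hom r • (M.restrictAppIso U.ι _).inv m)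
        rw [Scheme.Modules.smul_restrictAppIso_hom_apply]
        erw [Iso.hom_inv_id_apply, Iso.inv_hom_id_apply, Iso.inv_hom_id_apply]
        rfl }
  exact ⟨(b'.map l).mapCoeffs (U.ι.appIso ⊤).commRingCatIsoToRingEquiv fun _ _ => rfl⟩

/-- A trivialisation on an open gives bases of the sections on all smaller opens. -/
theorem exists_basis_sections {M : X.Modules} {U : X.Opens} {n : ℕ}
    (e : M.restrict U.ι ≅ FlatMod.freeMod U.toScheme n) {W : X.Opens} (hW : W ≤ U) :
    Nonempty (Module.Basis (Fin n) Γ(X, W) Γ(M, W)) := by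
  classical
  let V : U.toScheme.Opens := U.ι ⁻¹ᵁ W
  have hV : U.ι ''ᵁ V = W := by
    rw [Scheme.Hom.image_preimage_eq_opensRange_inf, Scheme.Opens.opensRange_ι, inf_eq_right.2 hW]
  let ψ := (e ≪≫ (freeModIso _ n).symm)
  let l₀ : Γ(M.restrict U.ι, V) ≃ₗ[Γ(U.toScheme, V)]
      Γ(Coherent.freeMod U.toScheme (ULift.{u} (Fin n)), V) :=
    LinearEquiv.ofBijective (appLin ψ.hom V)
      (ConcreteCategory.bijective_of_isIso (C := AddCommGrpCat) (ψ.hom.app V))
  let b₀ : Module.Basis (Fin n) Γ(U.toScheme, V) Γ(M.restrict U.ι, V) :=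
    ((Pi.basisFun Γ(U.toScheme, V) (ULift.{u} (Fin n))).map
      ((freeSectionsEquiv V).symm ≪≫ₗ l₀.symm)).reindex Equiv.ulift
  let _ := Module.compHom Γ(M, U.ι ''ᵁ V) (U.ι.appIso V).inv.hom
  let l : Γ(M.restrict U.ι, V) ≃ₗ[Γ(U.toScheme, V)] Γ(M, U.ι ''ᵁ V) :=
    { (M.restrictAppIso U.ι V).addCommGroupIsoToAddEquiv with
      map_smul' := fun r m => by
        change (M.restrictAppIso U.ι _).hom (r • m) = _
        exact Scheme.Modules.smul_restrictAppIso_hom_apply U.ι M V r m }
  have b₁ := (b₀.map l).mapCoeffs (U.ι.appIso V).symm.commRingCatIsoToRingEquiv fun _ _ => rfl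
  rw [hV] at b₁
  exact ⟨b₁⟩

/-- Finitely many sections whose germs form generators of a free stalk of the same rank. -/
theorem exists_nhd_free (M : X.Modules) [Coh.IsQCoh M] (hM : CohB1.IsFP M) (x : X)
    (hfree : Module.Free (X.presheaf.stalk x) (M.presheaf.stalk x)) :
    ∃ (U : X.Opens) (n : ℕ), x ∈ U ∧ Nonempty (M.restrict U.ι ≅ FlatMod.freeMod U.toScheme n) := by
  obtain ⟨U, hU, hx, -⟩ := Opens.isBasis_iff_nbhd.mp X.isBasis_affineOpens (Opens.mem_top x)
  have := EGA43.QcohFP.finitePresentation_sections M hM hU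
  let _ := (X.presheaf.germ U x hx).hom.toAlgebra
  let _ := Module.compHom (M.presheaf.stalk x) (X.presheaf.germ U x hx).hom
  have : IsScalarTower Γ(X, U) (X.presheaf.stalk x) (M.presheaf.stalk x) :=
    IsScalarTower.of_algebraMap_smul fun _ _ => rfl
  let φ : Γ(M, U) →ₗ[Γ(X, U)] M.presheaf.stalk x :=
    { toFun := M.presheaf.germ U x hx
      map_add' := map_add _
      map_smul' := QCohLoc.germ_smul' (M := M) hx }
  have := EGA43.QcohFP.isLocalizedModule_germ M hU hx φ fun _ => rfl
  have := hU.isLocalization_stalk ⟨x, hx⟩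
  obtain ⟨r, hr, hfr, -⟩ := Module.FinitePresentation.exists_free_localizedModule_powers
    (hU.primeIdealOf ⟨x, hx⟩).asIdeal.primeCompl φ (X.presheaf.stalk x)
  have hxr : x ∈ X.basicOpen r := by
    rw [Scheme.mem_basicOpen _ _ _ hx]
    exact (IsLocalization.AtPrime.isUnit_to_map_iff (X.presheaf.stalk x)
      (hU.primeIdealOf ⟨x, hx⟩).asIdeal r).2 hr
  let _ := (X.presheaf.map (homOfLE (X.basicOpen_le r)).op).hom.toAlgebra
  let _ := Module.compHom Γ(M, X.basicOpen r)
    (X.presheaf.map (homOfLE (X.basicOpen_le r)).op).hom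
  have : IsScalarTower Γ(X, U) Γ(X, X.basicOpen r) Γ(M, X.basicOpen r) :=
    IsScalarTower.of_algebraMap_smul fun _ _ => rfl
  let ρ : Γ(M, U) →ₗ[Γ(X, U)] Γ(M, X.basicOpen r) :=
    { toFun := resM M (X.basicOpen_le r)
      map_add' := map_add _
      map_smul' := resM_smul M _ }
  have := EGA43.QcohFP.isLocalizedModule_res M hU r ρ fun _ => rfl
  have := hU.isLocalization_basicOpen r
  let T : Submonoid Γ(X, U) := Submonoid.powers r
  let e₁ : Localization T ≃ₐ[Γ(X, U)] Γ(X, X.basicOpen r) := IsLocalization.algEquiv T _ _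
  let l : LocalizedModule T Γ(M, U) ≃ₗ[Γ(X, U)] Γ(M, X.basicOpen r) := IsLocalizedModule.iso T ρ
  let _ := Module.compHom Γ(M, X.basicOpen r) e₁.toRingHom
  have : IsScalarTower Γ(X, U) (Localization T) Γ(M, X.basicOpen r) :=
    IsScalarTower.of_algebraMap_smul fun a m => by
      change e₁ (algebraMap _ _ a) • m = _
      rw [AlgEquiv.commutes, algebraMap_smul]
  let bc := Module.Free.chooseBasis (Localization T) (LocalizedModule T Γ(M, U))
  have : Fintype (Module.Free.ChooseBasisIndex (Localization T) (LocalizedModule T Γ(M, U))) :=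
    inferInstance
  let b := ((bc.map (l.extendScalarsOfIsLocalization T (Localization T))).mapCoeffs e₁.toRingEquiv
    fun _ _ => rfl).reindex (Fintype.equivFin _)
  obtain ⟨b'⟩ := exists_basis_restrict_top M _ b
  have : IsAffine (X.basicOpen r).toScheme := hU.basicOpen r
  exact ⟨_, _, hxr, exists_iso_freeMod_of_basis (M.restrict (X.basicOpen r).ι) b'⟩

theorem isFinLocFree_of_isFP_of_free_stalks (M : X.Modules) [Coh.IsQCoh M] (hM : CohB1.IsFP M)
    (h : ∀ x : X, Module.Free (X.presheaf.stalk x) (M.presheaf.stalk x)) :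
    FlatMod.IsFinLocFree M :=
  fun x => exists_nhd_free M hM x (h x)

theorem isFP_of_isFinLocFree (M : X.Modules) [Coh.IsQCoh M] (h : FlatMod.IsFinLocFree M) :
    CohB1.IsFP M := by
  refine EGA43.FPKernel.isFP_of_forall_exists_affine M fun x => ?_
  obtain ⟨U, n, hxU, ⟨e⟩⟩ := h x
  obtain ⟨W, hW, hxW, hWU⟩ := Opens.isBasis_iff_nbhd.mp X.isBasis_affineOpens hxU
  obtain ⟨b⟩ := exists_basis_sections e hWU
  have : Module.Finite Γ(X, W) Γ(M, W) := Module.Finite.of_basis b
  have : Module.Free Γ(X, W) Γ(M, W) := .of_basis b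
  exact ⟨W, hW, hxW, Module.finitePresentation_of_projective _ _⟩

/-- Near each point a finite locally free module has stalks with a basis of constant size. -/
theorem exists_nhd_basis_stalk (M : X.Modules) [Coh.IsQCoh M] (h : FlatMod.IsFinLocFree M)
    (x : X) : ∃ (U : X.Opens) (n : ℕ), x ∈ U ∧
      ∀ y ∈ U, Nonempty (Module.Basis (Fin n) (X.presheaf.stalk y) (M.presheaf.stalk y)) := by
  obtain ⟨V, n, hxV, ⟨e⟩⟩ := h x
  obtain ⟨U, hU, hxU, hUV⟩ := Opens.isBasis_iff_nbhd.mp X.isBasis_affineOpens hxV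
  obtain ⟨b⟩ := exists_basis_sections e hUV
  refine ⟨U, n, hxU, fun y hy => ?_⟩
  let _ := (X.presheaf.germ U y hy).hom.toAlgebra
  let _ := Module.compHom (M.presheaf.stalk y) (X.presheaf.germ U y hy).hom
  have : IsScalarTower Γ(X, U) (X.presheaf.stalk y) (M.presheaf.stalk y) :=
    IsScalarTower.of_algebraMap_smul fun _ _ => rfl
  let φ : Γ(M, U) →ₗ[Γ(X, U)] M.presheaf.stalk y :=
    { toFun := M.presheaf.germ U y hy
      map_add' := map_add _
      map_smul' := QCohLoc.germ_smul' (M := M) hy }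
  have := EGA43.QcohFP.isLocalizedModule_germ M hU hy φ fun _ => rfl
  have := hU.isLocalization_stalk ⟨y, hy⟩
  exact ⟨b.ofIsLocalizedModule (X.presheaf.stalk y)
    (hU.primeIdealOf ⟨y, hy⟩).asIdeal.primeCompl φ⟩

theorem free_stalk_of_isFinLocFree (M : X.Modules) [Coh.IsQCoh M] (h : FlatMod.IsFinLocFree M)
    (x : X) : Module.Free (X.presheaf.stalk x) (M.presheaf.stalk x) := by
  obtain ⟨U, n, hx, hb⟩ := exists_nhd_basis_stalk M h x
  obtain ⟨b⟩ := hb x hx
  exact .of_basis b

theorem isFlat_of_isFinLocFree (M : X.Modules) [Coh.IsQCoh M] (h : FlatMod.IsFinLocFree M) :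
    FlatMod.IsFlat M := fun x => by
  have := free_stalk_of_isFinLocFree M h x
  exact Module.Flat.of_free

theorem finite_stalk_of_isFT (M : X.Modules) [Coh.IsQCoh M] (hM : CohB1.IsFT M) (x : X) :
    Module.Finite (X.presheaf.stalk x) (M.presheaf.stalk x) := by
  obtain ⟨U, hU, hx, -⟩ := Opens.isBasis_iff_nbhd.mp X.isBasis_affineOpens (Opens.mem_top x)
  have := finite_sections M (locallyFinGen_of_isFT M hM) hU
  let _ := (X.presheaf.germ U x hx).hom.toAlgebra
  let _ := Module.compHom (M.presheaf.stalk x) (X.presheaf.germ U x hx).hom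
  have : IsScalarTower Γ(X, U) (X.presheaf.stalk x) (M.presheaf.stalk x) :=
    IsScalarTower.of_algebraMap_smul fun _ _ => rfl
  let φ : Γ(M, U) →ₗ[Γ(X, U)] M.presheaf.stalk x :=
    { toFun := M.presheaf.germ U x hx
      map_add' := map_add _
      map_smul' := QCohLoc.germ_smul' (M := M) hx }
  have := EGA43.QcohFP.isLocalizedModule_germ M hU hx φ fun _ => rfl
  have := hU.isLocalization_stalk ⟨x, hx⟩
  exact Module.Finite.of_isLocalizedModule (Rₚ := X.presheaf.stalk x)
    (hU.primeIdealOf ⟨x, hx⟩).asIdeal.primeCompl φ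

/-- Generators of the stalk spread out to generating sections on an affine neighbourhood. -/
theorem exists_nhd_generators (M : X.Modules) [Coh.IsQCoh M] (hT : CohB1.IsFT M) {O : X.Opens}
    {x : X} (hxO : x ∈ O) {n : ℕ} (v : Fin n → M.presheaf.stalk x)
    (hv : ⊤ ≤ Submodule.span (X.presheaf.stalk x) (Set.range v)) :
    ∃ (W : X.Opens), IsAffineOpen W ∧ x ∈ W ∧ W ≤ O ∧
      ∃ s : Fin n → Γ(M, W), ⊤ ≤ Submodule.span Γ(X, W) (Set.range s) := by
  classical
  obtain ⟨U, hU, hx, hUO⟩ := Opens.isBasis_iff_nbhd.mp X.isBasis_affineOpens hxO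
  have := finite_sections M (locallyFinGen_of_isFT M hT) hU
  let _ := (X.presheaf.germ U x hx).hom.toAlgebra
  let _ := Module.compHom (M.presheaf.stalk x) (X.presheaf.germ U x hx).hom
  have : IsScalarTower Γ(X, U) (X.presheaf.stalk x) (M.presheaf.stalk x) :=
    IsScalarTower.of_algebraMap_smul fun _ _ => rfl
  let φ : Γ(M, U) →ₗ[Γ(X, U)] M.presheaf.stalk x :=
    { toFun := M.presheaf.germ U x hx
      map_add' := map_add _
      map_smul' := QCohLoc.germ_smul' (M := M) hx }
  have := EGA43.QcohFP.isLocalizedModule_germ M hU hx φ fun _ => rfl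
  have := hU.isLocalization_stalk ⟨x, hx⟩
  let P := (hU.primeIdealOf ⟨x, hx⟩).asIdeal.primeCompl
  choose ms hms using fun i => IsLocalizedModule.surj P φ (v i)
  let m : Fin n → Γ(M, U) := fun i => (ms i).1
  have key : ∀ g : Γ(M, U), ∃ r ∈ P, r • g ∈ Submodule.span Γ(X, U) (Set.range m) := fun g => by
    obtain ⟨c, hc⟩ : ∃ c : Fin n → X.presheaf.stalk x, φ g = ∑ i, c i • φ (m i) := by
      obtain ⟨c₀, hc₀⟩ := (Submodule.mem_span_range_iff_exists_fun (X.presheaf.stalk x)).1
        (hv (Submodule.mem_top (x := φ g)))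
      refine ⟨fun i => c₀ i *
        ↑(IsLocalization.map_units (X.presheaf.stalk x) (ms i).2).unit⁻¹, ?_⟩
      conv_lhs => rw [← hc₀]
      refine Finset.sum_congr rfl fun i _ => ?_
      change _ = _ • φ (ms i).1
      rw [← hms i, Submonoid.smul_def, ← algebraMap_smul (X.presheaf.stalk x) ((ms i).2 : Γ(X, U)),
        smul_smul, mul_assoc, IsUnit.val_inv_mul, mul_one]
    obtain ⟨d, hd⟩ := IsLocalization.exist_integer_multiples_of_finite P c
    choose a ha using hd
    obtain ⟨t, ht⟩ := IsLocalizedModule.exists_of_eq (S := P) (f := φ)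
      (show φ ((d : Γ(X, U)) • g) = φ (∑ i, a i • m i) by
        rw [map_smul, hc, Finset.smul_sum, map_sum]
        refine Finset.sum_congr rfl fun i _ => ?_
        rw [map_smul, ← algebraMap_smul (X.presheaf.stalk x) (a i), ha i, ← smul_assoc])
    refine ⟨t * d, mul_mem t.2 d.2, ?_⟩
    rw [mul_smul]
    change t • ((d : Γ(X, U)) • g) ∈ _
    rw [ht]
    exact Submodule.smul_mem _ _ (Submodule.sum_mem _ fun i _ =>
      Submodule.smul_mem _ _ (Submodule.subset_span ⟨i, rfl⟩))
  obtain ⟨G, hG⟩ := Module.Finite.fg_top (R := Γ(X, U)) (M := Γ(M, U))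
  choose r hr hrg using key
  obtain ⟨R, hR, hRS⟩ : ∃ R ∈ P, ∀ g : Γ(M, U), R • g ∈ Submodule.span Γ(X, U) (Set.range m) := by
    refine ⟨∏ g ∈ G, r g, prod_mem fun g _ => hr g, fun g => ?_⟩
    have hg : g ∈ Submodule.span Γ(X, U) (G : Set Γ(M, U)) := hG.ge trivial
    induction hg using Submodule.span_induction with
    | mem y hy =>
      rw [← Finset.prod_erase_mul _ _ hy, mul_smul]
      exact Submodule.smul_mem _ _ (hrg y)
    | zero => rw [smul_zero]; exact zero_mem _
    | add y z _ _ hy hz => rw [smul_add]; exact add_mem hy hz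
    | smul a y _ hy => rw [smul_comm]; exact Submodule.smul_mem _ a hy
  let W := X.basicOpen R
  have hxW : x ∈ W := by
    rw [Scheme.mem_basicOpen _ _ _ hx]
    exact (IsLocalization.AtPrime.isUnit_to_map_iff (X.presheaf.stalk x)
      (hU.primeIdealOf ⟨x, hx⟩).asIdeal R).2 hR
  have hW : IsAffineOpen W := hU.basicOpen R
  have hWU : W ≤ U := X.basicOpen_le R
  let s : Fin n → Γ(M, W) := fun i => resM M hWU (m i)
  have hspan : ⊤ ≤ Submodule.span Γ(X, W) (Set.range s) := fun z _ => by
    obtain ⟨k, t, ht⟩ := qcoh_exists_pow_smul hU M R z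
    have hm : resM M hWU (R • t) ∈ Submodule.span Γ(X, W) (Set.range s) := by
      obtain ⟨c, hc⟩ := (Submodule.mem_span_range_iff_exists_fun Γ(X, U)).1 (hRS t)
      rw [← hc, map_sum]
      refine Submodule.sum_mem _ fun i _ => ?_
      rw [resM_smul]
      exact Submodule.smul_mem _ _ (Submodule.subset_span ⟨i, rfl⟩)
    rw [resM_smul, ht, smul_smul, ← map_mul, ← pow_succ'] at hm
    exact (Submodule.smul_mem_iff_of_isUnit _ (isUnit_res_pow R hWU le_rfl (k + 1))).1 hm
  exact ⟨W, hW, hxW, hWU.trans hUO, s, hspan⟩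

/-- Germs of generating sections generate the stalks. -/
theorem span_germ_eq_top (M : X.Modules) [Coh.IsQCoh M] {W : X.Opens} (hW : IsAffineOpen W)
    {n : ℕ} {s : Fin n → Γ(M, W)} (hspan : ⊤ ≤ Submodule.span Γ(X, W) (Set.range s)) {y : X}
    (hy : y ∈ W) :
    ⊤ ≤ Submodule.span (X.presheaf.stalk y) (Set.range fun i => M.presheaf.germ W y hy (s i)) := by
  let _ := (X.presheaf.germ W y hy).hom.toAlgebra
  let _ := Module.compHom (M.presheaf.stalk y) (X.presheaf.germ W y hy).hom
  have : IsScalarTower Γ(X, W) (X.presheaf.stalk y) (M.presheaf.stalk y) :=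
    IsScalarTower.of_algebraMap_smul fun _ _ => rfl
  let ψ : Γ(M, W) →ₗ[Γ(X, W)] M.presheaf.stalk y :=
    { toFun := M.presheaf.germ W y hy
      map_add' := map_add _
      map_smul' := QCohLoc.germ_smul' (M := M) hy }
  have := EGA43.QcohFP.isLocalizedModule_germ M hW hy ψ fun _ => rfl
  have := hW.isLocalization_stalk ⟨y, hy⟩
  have hsp := span_eq_top_of_isLocalizedModule (X.presheaf.stalk y)
    (hW.primeIdealOf ⟨y, hy⟩).asIdeal.primeCompl ψ (eq_top_iff.2 hspan)
  rw [← Set.range_comp] at hsp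
  exact hsp.ge

/-- Germs of a relation give relations of germs. -/
theorem germ_relation (M : X.Modules) {W : X.Opens} {n : ℕ} {s : Fin n → Γ(M, W)}
    {c : Fin n → Γ(X, W)} (hc : ∑ i, c i • s i = 0) {y : X} (hy : y ∈ W) :
    ∑ i, X.presheaf.germ W y hy (c i) • M.presheaf.germ W y hy (s i) = 0 := by
  have := congrArg (M.presheaf.germ W y hy) hc
  rw [map_sum, map_zero] at this
  rw [← this]
  exact Finset.sum_congr rfl fun i _ => (QCohLoc.germ_smul' (M := M) hy _ _).symm

/-- A module of finite type with free stalks of locally constant rank is finite locally free. -/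
theorem isFinLocFree_of_rank_locallyConstant (M : X.Modules) [Coh.IsQCoh M] (hT : CohB1.IsFT M)
    (hfree : ∀ x : X, Module.Free (X.presheaf.stalk x) (M.presheaf.stalk x))
    (hrank : IsLocallyConstant
      fun x : X => Module.finrank (X.presheaf.stalk x) (M.presheaf.stalk x)) :
    FlatMod.IsFinLocFree M := by
  classical
  intro x
  obtain ⟨n, hn⟩ : ∃ n, Module.finrank (X.presheaf.stalk x) (M.presheaf.stalk x) = n := ⟨_, rfl⟩
  have := finite_stalk_of_isFT M hT x
  have := hfree x
  obtain ⟨W, hW, hxW, hWO, s, hspan⟩ := exists_nhd_generators M hT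
    (show x ∈ (⟨_, hrank.isOpen_fiber n⟩ : X.Opens) from hn)
    (Module.finBasisOfFinrankEq _ _ hn) (Module.Basis.span_eq _).ge
  have hli : LinearIndependent Γ(X, W) s := by
    rw [Fintype.linearIndependent_iff]
    intro c hc i
    refine TopCat.Presheaf.section_ext X.sheaf W (c i) 0 fun y hy => ?_
    change X.presheaf.germ W y hy (c i) = X.presheaf.germ W y hy 0
    have := hfree y
    have hli' := linearIndependent_of_top_le_span_of_card_eq_finrank
      (span_germ_eq_top M hW hspan hy)
      ((Fintype.card_fin n).trans (show _ = n from hWO hy).symm)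
    rw [map_zero]
    exact (Fintype.linearIndependent_iff.1 hli') _ (germ_relation M hc hy) i
  obtain ⟨b'⟩ := exists_basis_restrict_top M W (Module.Basis.mk hli hspan)
  have : IsAffine W.toScheme := hW
  exact ⟨_, _, hxW, exists_iso_freeMod_of_basis (M.restrict W.ι) b'⟩

open TensorProduct in
/-- On a reduced scheme a module of finite type with locally constant fibre rank is finite locally
free. -/
theorem isFinLocFree_of_fibreRank_locallyConstant [IsReduced X] (M : X.Modules) [Coh.IsQCoh M]
    (hT : CohB1.IsFT M)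
    (hrank : IsLocallyConstant fun x : X =>
      Module.finrank (IsLocalRing.ResidueField (X.presheaf.stalk x))
        ((IsLocalRing.ResidueField (X.presheaf.stalk x)) ⊗[X.presheaf.stalk x]
          (M.presheaf.stalk x))) :
    FlatMod.IsFinLocFree M := by
  classical
  intro x
  obtain ⟨n, hn⟩ : ∃ n, Module.finrank (IsLocalRing.ResidueField (X.presheaf.stalk x))
      ((IsLocalRing.ResidueField (X.presheaf.stalk x)) ⊗[X.presheaf.stalk x]
        (M.presheaf.stalk x)) = n := ⟨_, rfl⟩
  have := finite_stalk_of_isFT M hT x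
  let b := Module.finBasisOfFinrankEq _ _ hn
  choose v hv using fun i => TensorProduct.mk_surjective (X.presheaf.stalk x) (M.presheaf.stalk x)
    (IsLocalRing.ResidueField (X.presheaf.stalk x)) IsLocalRing.residue_surjective (b i)
  obtain ⟨W, hW, hxW, hWO, s, hspan⟩ := exists_nhd_generators M hT
    (show x ∈ (⟨_, hrank.isOpen_fiber n⟩ : X.Opens) from hn) v
    (IsLocalRing.span_eq_top_of_tmul_eq_basis v b hv).ge
  have hli : LinearIndependent Γ(X, W) s := by
    rw [Fintype.linearIndependent_iff]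
    intro c hc i
    refine (basicOpen_eq_bot_iff _).1 ?_
    rw [eq_bot_iff]
    intro y hy
    have hyW := X.basicOpen_le (c i) hy
    rw [Scheme.mem_basicOpen _ _ _ hyW] at hy
    have := finite_stalk_of_isFT M hT y
    have hsp : ⊤ ≤ Submodule.span (IsLocalRing.ResidueField (X.presheaf.stalk y))
        (Set.range fun j => (1 : IsLocalRing.ResidueField (X.presheaf.stalk y)) ⊗ₜ[X.presheaf.stalk y]
          M.presheaf.germ W y hyW (s j)) := by
      intro t _
      induction t using TensorProduct.induction_on with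
      | zero => exact zero_mem _
      | add t t' ht ht' => exact add_mem (ht trivial) (ht' trivial)
      | tmul a m =>
        obtain ⟨d, rfl⟩ := (Submodule.mem_span_range_iff_exists_fun (X.presheaf.stalk y)).1
          (span_germ_eq_top M hW hspan hyW (Submodule.mem_top (x := m)))
        rw [TensorProduct.tmul_sum]
        refine Submodule.sum_mem _ fun j _ => ?_
        rw [TensorProduct.tmul_smul, TensorProduct.smul_tmul', ← mul_one (d j • a),
          ← smul_eq_mul, ← TensorProduct.smul_tmul']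
        exact Submodule.smul_mem _ _ (Submodule.subset_span ⟨j, rfl⟩)
    have hli' := linearIndependent_of_top_le_span_of_card_eq_finrank hsp
      ((Fintype.card_fin n).trans (show _ = n from hWO hyW).symm)
    have h0 := (Fintype.linearIndependent_iff.1 hli')
      (fun j => IsLocalRing.residue _ (X.presheaf.germ W y hyW (c j))) (by
        have := congrArg (fun m => (1 : IsLocalRing.ResidueField (X.presheaf.stalk y))
          ⊗ₜ[X.presheaf.stalk y] m) (germ_relation M hc hyW)
        simp only [TensorProduct.tmul_sum, TensorProduct.tmul_zero, TensorProduct.tmul_smul] at this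
        refine Eq.trans (Finset.sum_congr rfl fun j _ => ?_) this
        exact algebraMap_smul (IsLocalRing.ResidueField (X.presheaf.stalk y)) _ _) i
    exact (IsLocalRing.residue_eq_zero_iff _).1 h0 hy
  obtain ⟨b'⟩ := exists_basis_restrict_top M W (Module.Basis.mk hli hspan)
  have : IsAffine W.toScheme := hW
  exact ⟨_, _, hxW, exists_iso_freeMod_of_basis (M.restrict W.ι) b'⟩

/-- Sections of a flat module on an affine open are flat. -/
theorem flat_sections_of_isFlat (M : X.Modules) [Coh.IsQCoh M] (h : FlatMod.IsFlat M) {U : X.Opens}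
    (hU : IsAffineOpen U) : Module.Flat Γ(X, U) Γ(M, U) := by
  refine Module.flat_of_localized_maximal _ ?_
  intro P hP
  obtain ⟨⟨x, hx⟩, hxP⟩ : ∃ x : U, (hU.primeIdealOf x).asIdeal = P :=
    ⟨⟨hU.fromSpec ⟨P, inferInstance⟩, by
      rw [← SetLike.mem_coe, ← hU.range_fromSpec]; exact ⟨_, rfl⟩⟩, by
        exact congrArg PrimeSpectrum.asIdeal (hU.fromSpec.isOpenEmbedding.injective
          (hU.fromSpec_primeIdealOf _))⟩
  subst hxP
  let _ := (X.presheaf.germ U x hx).hom.toAlgebra
  let _ := Module.compHom (M.presheaf.stalk x) (X.presheaf.germ U x hx).hom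
  have : IsScalarTower Γ(X, U) (X.presheaf.stalk x) (M.presheaf.stalk x) :=
    IsScalarTower.of_algebraMap_smul fun _ _ => rfl
  let φ : Γ(M, U) →ₗ[Γ(X, U)] M.presheaf.stalk x :=
    { toFun := M.presheaf.germ U x hx
      map_add' := map_add _
      map_smul' := QCohLoc.germ_smul' (M := M) hx }
  have := EGA43.QcohFP.isLocalizedModule_germ M hU hx φ fun _ => rfl
  have := hU.isLocalization_stalk ⟨x, hx⟩
  have : Module.Flat (X.presheaf.stalk x) (M.presheaf.stalk x) := h x
  have : Module.Flat Γ(X, U) (X.presheaf.stalk x) :=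
    IsLocalization.flat (X.presheaf.stalk x) (hU.primeIdealOf ⟨x, hx⟩).asIdeal.primeCompl
  have : Module.Flat Γ(X, U) (M.presheaf.stalk x) := Module.Flat.trans _ (X.presheaf.stalk x) _
  exact Module.Flat.of_linearEquiv (IsLocalizedModule.iso _ φ)

/-- Stalks of a module with flat sections on an affine open are flat. -/
theorem flat_stalk_of_flat_sections (M : X.Modules) [Coh.IsQCoh M] {U : X.Opens}
    (hU : IsAffineOpen U) [Module.Flat Γ(X, U) Γ(M, U)] {x : X} (hx : x ∈ U) :
    Module.Flat (X.presheaf.stalk x) (M.presheaf.stalk x) := by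
  let _ := (X.presheaf.germ U x hx).hom.toAlgebra
  let _ := Module.compHom (M.presheaf.stalk x) (X.presheaf.germ U x hx).hom
  have : IsScalarTower Γ(X, U) (X.presheaf.stalk x) (M.presheaf.stalk x) :=
    IsScalarTower.of_algebraMap_smul fun _ _ => rfl
  let φ : Γ(M, U) →ₗ[Γ(X, U)] M.presheaf.stalk x :=
    { toFun := M.presheaf.germ U x hx
      map_add' := map_add _
      map_smul' := QCohLoc.germ_smul' (M := M) hx }
  have := EGA43.QcohFP.isLocalizedModule_germ M hU hx φ fun _ => rfl
  have := hU.isLocalization_stalk ⟨x, hx⟩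
  exact Module.Flat.of_isLocalizedModule (X.presheaf.stalk x)
    (hU.primeIdealOf ⟨x, hx⟩).asIdeal.primeCompl φ

/-- Flatness ascends along bijective structure maps. -/
theorem flat_of_bijective {A B N : Type u} [CommRing A] [CommRing B] [Algebra A B] [AddCommGroup N]
    [Module A N] [Module B N] [IsScalarTower A B N] (hB : Function.Bijective (algebraMap A B))
    [Module.Flat A N] : Module.Flat B N := by
  have : IsLocalization (⊥ : Submonoid A) A :=
    IsLocalization.self fun _ h => (Submonoid.mem_bot.1 h).symm ▸ isUnit_one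
  have : IsLocalization (⊥ : Submonoid A) B :=
    IsLocalization.isLocalization_of_algEquiv ⊥ (AlgEquiv.ofBijective (Algebra.ofId A B) hB)
  exact (Module.flat_iff_of_isLocalization B ⊥ (M := N)).2 ‹_›

end Groth.Agent.Props12
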