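import Mathlib.AlgebraicGeometry.IdealSheaf.Basic
import Mathlib.AlgebraicGeometry.IdealSheaf.Subscheme
import Mathlib.AlgebraicGeometry.Properties
import Mathlib.AlgebraicGeometry.Morphisms.ClosedImmersion
import Mathlib.Topology.Irreducible

/-!
The scheme theoretic image of a reduced scheme.
-/

universe u

open AlgebraicGeometry CategoryTheory TopologicalSpace

namespace Groth.Agent.Props12

variable {X Y : Scheme.{u}}

/-- The closure of the range, as a closed set. -/
def rangeClosure (f : X ⟶ Y) : Closeds Y := ⟨closure (Set.range f), isClosed_closure⟩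

lemma ker_app_eq_of_isReduced [IsReduced X] (f : X ⟶ Y) (U : Y.affineOpens) :
    RingHom.ker (f.app U).hom =
      (Scheme.IdealSheafData.vanishingIdeal (rangeClosure f)).ideal U := by
  ext a
  rw [RingHom.mem_ker, ← basicOpen_eq_bot_iff, Scheme.IdealSheafData.vanishingIdeal_ideal,
    PrimeSpectrum.mem_vanishingIdeal]
  rw [show X.basicOpen ((f.app U).hom a) = f ⁻¹ᵁ Y.basicOpen a from
    (Scheme.preimage_basicOpen f a).symm]
  constructor
  · intro h p hp
    by_contra hpa
    have h1 : U.2.fromSpec p ∈ Y.basicOpen a := by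
      have : p ∈ U.2.fromSpec ⁻¹ᵁ Y.basicOpen a := by
        rw [U.2.fromSpec_preimage_basicOpen]; exact hpa
      exact this
    obtain ⟨_, hz, ⟨x, rfl⟩⟩ := mem_closure_iff.mp hp _ (Y.basicOpen a).isOpen h1
    exact (h ▸ (hz : x ∈ f ⁻¹ᵁ Y.basicOpen a) : x ∈ (⊥ : X.Opens))
  · intro h
    rw [eq_bot_iff]
    intro x hx
    have hxU : f x ∈ (U : Y.Opens) := Y.basicOpen_le a hx
    have h2 := U.2.fromSpec_primeIdealOf ⟨f x, hxU⟩
    have hp : U.2.primeIdealOf ⟨f x, hxU⟩ ∈ U.2.fromSpec ⁻¹' (rangeClosure f : Set Y) := by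
      change U.2.fromSpec _ ∈ closure (Set.range f)
      rw [h2]
      exact subset_closure ⟨x, rfl⟩
    have h3 : U.2.primeIdealOf ⟨f x, hxU⟩ ∈ U.2.fromSpec ⁻¹ᵁ Y.basicOpen a := by
      change U.2.fromSpec _ ∈ Y.basicOpen a
      rw [h2]; exact hx
    rw [U.2.fromSpec_preimage_basicOpen] at h3
    exact absurd (h _ hp) h3

theorem ker_eq_vanishingIdeal [IsReduced X] (f : X ⟶ Y) :
    f.ker = Scheme.IdealSheafData.vanishingIdeal (rangeClosure f) := by
  refine le_antisymm ?_ (Scheme.IdealSheafData.le_ofIdeals_iff.mpr fun U ↦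
    (ker_app_eq_of_isReduced f U).ge)
  intro U
  exact (f.ideal_ker_le U).trans (ker_app_eq_of_isReduced f U).le

theorem ker_ideal_eq [IsReduced X] (f : X ⟶ Y) (U : Y.affineOpens) :
    f.ker.ideal U = RingHom.ker (f.app U).hom := by
  rw [ker_eq_vanishingIdeal, ker_app_eq_of_isReduced]

theorem support_ker_eq [IsReduced X] (f : X ⟶ Y) :
    (f.ker.support : Set Y) = closure (Set.range f) := by
  rw [ker_eq_vanishingIdeal]
  rfl

theorem isReduced_subscheme_vanishingIdeal (Z : Closeds Y) :
    IsReduced (Scheme.IdealSheafData.vanishingIdeal Z).subscheme := by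
  set I := Scheme.IdealSheafData.vanishingIdeal Z
  have key : ∀ U : Y.affineOpens, IsReduced (Spec (CommRingCat.of (Γ(Y, U) ⧸ I.ideal U))) := by
    intro U
    have hr : (I.ideal U).IsRadical := by
      rw [Scheme.IdealSheafData.vanishingIdeal_ideal]
      exact PrimeSpectrum.isRadical_vanishingIdeal _
    have : _root_.IsReduced (Γ(Y, U) ⧸ I.ideal U) :=
      (Ideal.isRadical_iff_quotient_reduced _).mp hr
    exact inferInstance
  have : ∀ i, IsReduced (I.subschemeCover.openCover.X i) := fun U ↦ key U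
  exact IsReduced.of_openCover (𝒰 := I.subschemeCover.openCover)

theorem exists_lift_integral_component (f : X ⟶ Y) [IsReduced X] [IrreducibleSpace X] :
    ∃ (Z : Closeds Y) (_ : (Z : Set Y) ∈ irreducibleComponents Y)
      (_ : IsIntegral (Scheme.IdealSheafData.vanishingIdeal Z).subscheme)
      (g : X ⟶ (Scheme.IdealSheafData.vanishingIdeal Z).subscheme),
      g ≫ (Scheme.IdealSheafData.vanishingIdeal Z).subschemeι = f := by
  have hirr : IsIrreducible (Set.range f) := by
    rw [← Set.image_univ]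
    exact (IrreducibleSpace.isIrreducible_univ X).image f f.continuous.continuousOn
  obtain ⟨C, hC1, hC2, hC3⟩ := exists_preirreducible (Set.range f) hirr.2
  have hCne : C.Nonempty := hirr.1.mono hC2
  have hCc : IsClosed C := by
    have h1 : C = closure C := (hC3 _ hC1.closure subset_closure).symm
    rw [h1]; exact isClosed_closure
  have hCmem : C ∈ irreducibleComponents Y :=
    ⟨⟨hCne, hC1⟩, fun t ht hle ↦ (hC3 t ht.2 hle).le⟩
  let Z : Closeds Y := ⟨C, hCc⟩
  let I := Scheme.IdealSheafData.vanishingIdeal Z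
  have hrange : Set.range I.subschemeι = C := by
    rw [Scheme.IdealSheafData.range_subschemeι]
    rfl
  have : IrreducibleSpace I.subscheme := by
    have h1 : IsIrreducible (Set.univ : Set I.subscheme) := by
      have := I.subschemeι.isEmbedding
      refine ⟨?_, ?_⟩
      · obtain ⟨c, hc⟩ := hCne
        obtain ⟨z, -⟩ : c ∈ Set.range I.subschemeι := hrange ▸ hc
        exact ⟨z, trivial⟩
      · intro u v hu hv hu' hv'
        obtain ⟨u', hu'o, rfl⟩ := this.isInducing.isOpen_iff.mp hu
        obtain ⟨v', hv'o, rfl⟩ := this.isInducing.isOpen_iff.mp hv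
        obtain ⟨a, -, ha⟩ := hu'
        obtain ⟨b, -, hb⟩ := hv'
        obtain ⟨c, hc, hcu, hcv⟩ := hC1 u' v' hu'o hv'o ⟨_, hrange.le ⟨a, rfl⟩, ha⟩
          ⟨_, hrange.le ⟨b, rfl⟩, hb⟩
        obtain ⟨z, rfl⟩ : c ∈ Set.range I.subschemeι := hrange ▸ hc
        exact ⟨z, trivial, hcu, hcv⟩
    have : Nonempty I.subscheme := ⟨h1.1.some⟩
    have : PreirreducibleSpace I.subscheme := ⟨h1.2⟩
    exact IrreducibleSpace.mk inferInstance
  have hred : IsReduced I.subscheme := isReduced_subscheme_vanishingIdeal Z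
  have hle : I.subschemeι.ker ≤ f.ker := by
    rw [Scheme.IdealSheafData.ker_subschemeι, ker_eq_vanishingIdeal f]
    exact Scheme.IdealSheafData.vanishingIdeal_antimono (closure_minimal hC2 hCc)
  exact ⟨Z, hCmem, isIntegral_of_irreducibleSpace_of_isReduced _,
    IsClosedImmersion.lift I.subschemeι f hle, IsClosedImmersion.lift_fac _ _ _⟩

end Groth.Agent.Props12
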