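import Groth.Agent.AmpleLib.Relative2

/-!
# Ample external tensor products over a quasi-separated base
-/

set_option autoImplicit false

universe u

open CategoryTheory CategoryTheory.Limits AlgebraicGeometry TopologicalSpace
open Groth.Agent.AmpleLib Groth.Agent.Coherent Groth.Agent.PicLib

namespace Groth.Agent.Props12.AmpleExternal

theorem isRelAmple_of_isAmple {X T : Scheme.{u}} [IsAffine T] (f : X ⟶ T) (L : X.Modules)
    (hL : CohB1.IsAmple L) : RelAmple.IsRelAmple f L := by
  obtain ⟨hi, hc, -⟩ := isAmple_iff_affGlocus.1 hL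
  have : QuasiCompact f := inferInstance
  refine isRelAmple_of_affine_cover f hi fun y => ⟨⟨⊤, isAffineOpen_top T⟩, trivial, ?_⟩
  have : CompactSpace (f ⁻¹ᵁ ⊤ : Scheme.{u}) :=
    isCompact_iff_compactSpace.1 (isCompact_univ (X := ↑X))
  exact isAmple_pullback_of_isEmbedding _ (f ⁻¹ᵁ ⊤).ι.isOpenEmbedding.isEmbedding hL

theorem isAmple_of_isRelAmple {X T : Scheme.{u}} [IsAffine T] (f : X ⟶ T) (L : X.Modules)
    (hL : RelAmple.IsRelAmple f L) : CohB1.IsAmple L := by
  have hqc : QuasiCompact f := hL.1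
  have : CompactSpace X := QuasiCompact.compactSpace_of_compactSpace f
  have h := ((isRelAmple_iff f).1 hL).2 ⟨⊤, isAffineOpen_top T⟩
  let e : X ⟶ (f ⁻¹ᵁ ⊤ : Scheme.{u}) :=
    IsOpenImmersion.lift (f ⁻¹ᵁ ⊤).ι (𝟙 X) (by rw [Scheme.Opens.range_ι]; intro x _; trivial)
  have he : e ≫ (f ⁻¹ᵁ ⊤).ι = 𝟙 X := IsOpenImmersion.lift_fac _ _ _
  have hemb : Topology.IsEmbedding e.base := by
    refine Topology.IsEmbedding.of_comp e.continuous (f ⁻¹ᵁ ⊤).ι.continuous ?_
    have : (f ⁻¹ᵁ ⊤).ι.base ∘ e.base = id := funext fun x =>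
      congrArg (fun φ : X ⟶ X => φ x) he
    rw [this]
    exact Topology.IsEmbedding.id
  refine isAmple_of_iso ?_ (isAmple_pullback_of_isEmbedding e hemb h)
  exact (Scheme.Modules.pullbackComp e (f ⁻¹ᵁ ⊤).ι).app L ≪≫
    (Scheme.Modules.pullbackCongr he).app L ≪≫ (Scheme.Modules.pullbackId X).app L

theorem isAmple_externalTensor {X Y S : Scheme.{u}} [QuasiSeparatedSpace S]
    (f : X ⟶ S) (g : Y ⟶ S) (L : X.Modules) (N : Y.Modules) (hL : CohB1.IsAmple L)
    (hN : CohB1.IsAmple N) :
    CohB1.IsAmple (CohB1.tensorMod ((Scheme.Modules.pullback (pullback.fst f g)).obj L)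
      ((Scheme.Modules.pullback (pullback.snd f g)).obj N)) := by
  obtain ⟨hLi, hXc, -⟩ := isAmple_iff_affGlocus.1 hL
  obtain ⟨hNi, hYc, -⟩ := isAmple_iff_affGlocus.1 hN
  let T : Scheme.{u} := ⊤_ Scheme.{u}
  let fX : X ⟶ T := terminal.from X
  let fY : Y ⟶ T := terminal.from Y
  have hLr := isRelAmple_of_isAmple fX L hL
  have hNr := isRelAmple_of_isAmple fY N hN
  have := hLr.1
  have := hNr.1
  let P := pullback (fX ≫ 𝟙 T) (fY ≫ 𝟙 T)
  let φ : P ⟶ pullback (𝟙 T) (𝟙 T) := pullback.map _ _ (𝟙 T) (𝟙 T) fX fY (𝟙 T) rfl rfl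
  have : QuasiCompact φ :=
    MorphismProperty.pullback_map (P := @QuasiCompact) (inferInstance : QuasiCompact fX)
      (inferInstance : QuasiCompact fY) rfl rfl
  have hP := isAmple_of_isRelAmple φ _
    (isRelAmple_externalTensor (𝟙 T) (𝟙 T) fX fY hLr hNr φ (pullback.lift_fst _ _ _)
      (pullback.lift_snd _ _ _))
  let σ : pullback f g ⟶ P :=
    pullback.lift (pullback.fst f g) (pullback.snd f g) (terminal.hom_ext _ _)
  have : QuasiSeparated (terminal.from S) := inferInstance
  have h1 : QuasiCompact g := inferInstance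
  have : QuasiCompact (pullback.fst f g) := MorphismProperty.pullback_fst _ _ h1
  have : CompactSpace ↥(pullback f g) :=
    QuasiCompact.compactSpace_of_compactSpace (pullback.fst f g)
  have himm : IsImmersion σ := by
    have h : σ = pullback.mapDesc f g (terminal.from S) ≫
        (pullback.congrHom (terminal.hom_ext (f ≫ terminal.from S) (fX ≫ 𝟙 T))
          (terminal.hom_ext (g ≫ terminal.from S) (fY ≫ 𝟙 T))).hom := by
      apply pullback.hom_ext
      · refine (pullback.lift_fst _ _ _).trans ?_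
        dsimp only [pullback.congrHom_hom, pullback.mapDesc, pullback.map]
        erw [Category.assoc, pullback.lift_fst]
        simp only [Category.comp_id]
        exact (pullback.lift_fst _ _ _).symm
      · refine (pullback.lift_snd _ _ _).trans ?_
        dsimp only [pullback.congrHom_hom, pullback.mapDesc, pullback.map]
        erw [Category.assoc, pullback.lift_snd]
        simp only [Category.comp_id]
        exact (pullback.lift_snd _ _ _).symm
    rw [h]
    infer_instance
  have hσ : Topology.IsEmbedding σ.base := σ.isEmbedding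
  have h2 := isAmple_pullback_of_isEmbedding σ hσ hP
  obtain ⟨e⟩ := exists_pullTensorIso σ (PicLoc.isInvertible_pullback (pullback.fst (fX ≫ 𝟙 T) (fY ≫ 𝟙 T)) hLi)
    (PicLoc.isInvertible_pullback (pullback.snd (fX ≫ 𝟙 T) (fY ≫ 𝟙 T)) hNi)
  let e1 := (Scheme.Modules.pullbackComp σ (pullback.fst (fX ≫ 𝟙 T) (fY ≫ 𝟙 T))).app L ≪≫
    (Scheme.Modules.pullbackCongr (pullback.lift_fst _ _ _)).app L
  let e2 := (Scheme.Modules.pullbackComp σ (pullback.snd (fX ≫ 𝟙 T) (fY ≫ 𝟙 T))).app N ≪≫
    (Scheme.Modules.pullbackCongr (pullback.lift_snd _ _ _)).app N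
  exact isAmple_of_iso (e ≪≫ tensorIso e1 e2) h2

end Groth.Agent.Props12.AmpleExternal
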