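import Groth.Agent.EGA43.QcohFlat
import Mathlib.RingTheory.Flat.Localization
import Mathlib.RingTheory.Flat.FaithfullyFlat.Algebra
import Groth.Agent.ModStalk.Pullback
import Mathlib.RingTheory.LocalProperties.Exactness

/-!
# Flatness over the base read off on pairs of affine opens
-/

set_option autoImplicit false
set_option backward.isDefEq.respectTransparency false

universe u

open CategoryTheory AlgebraicGeometry Opposite TopologicalSpace TensorProduct

namespace Groth.Agent.Props12

/-- A localisation of a module flat over `A` is flat over `A`. -/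
theorem flat_localizedModule {A B : Type u} [CommRing A] [CommRing B] [Algebra A B]
    (S : Submonoid B) (M : Type u) [AddCommGroup M] [Module A M] [Module B M] [IsScalarTower A B M]
    [Module.Flat A M] : Module.Flat A (LocalizedModule S M) := by
  have H := ‹Module.Flat A M›
  let f := LocalizedModule.mkLinearMap S M
  rw [Module.Flat.iff_lTensor_injectiveₛ] at H ⊢
  simp_rw [← AlgebraTensorModule.coe_lTensor (A := B)] at H ⊢
  intro P _ _ N
  have := IsLocalizedModule.map_injective S (AlgebraTensorModule.rTensor A N f)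
    (AlgebraTensorModule.rTensor A P f) _ (H (P := P) N)
  simpa [IsLocalizedModule.map_lTensor] using this

/-- Flatness over `K` is insensitive to faithfully flat base change along `A → B`. -/
theorem flat_tensor_iff_of_faithfullyFlat {K A B : Type u} [CommRing K] [CommRing A] [CommRing B] [Algebra K A] [Algebra A B]
    (N : Type u) [AddCommGroup N] [Module K N] [Module A N] [IsScalarTower K A N]
    [Algebra K B] [IsScalarTower K A B] [Module.FaithfullyFlat A B] :
    Module.Flat K (B ⊗[A] N) ↔ Module.Flat K N := by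
  simp_rw [Module.Flat.iff_lTensor_injectiveₛ]
  simp_rw [← AlgebraTensorModule.coe_lTensor (A := A)]
  refine forall_congr' fun P => forall_congr' fun _ => forall_congr' fun _ => forall_congr' fun Q => ?_
  rw [← Module.FaithfullyFlat.lTensor_injective_iff_injective A B
    (AlgebraTensorModule.lTensor A N Q.subtype)]
  let e₁ := AlgebraTensorModule.assoc K A A B N Q
  let e₂ := AlgebraTensorModule.assoc K A A B N P
  have : (AlgebraTensorModule.lTensor A (B ⊗[A] N) Q.subtype) =
      e₂.symm.toLinearMap ∘ₗ ((AlgebraTensorModule.lTensor A N Q.subtype).lTensor B) ∘ₗ e₁.toLinearMap := by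
    ext b n q; rfl
  rw [this]
  simp

variable {X Y : Scheme.{u}}

/-- Flatness at the points of a pair of affine opens is flatness of sections. -/
theorem flat_sections_iff (f : X ⟶ Y) (M : X.Modules) [Coh.IsQCoh M] {V : Y.Opens}
    (hV : IsAffineOpen V) {U : X.Opens} (hU : IsAffineOpen U) (e : U ≤ f ⁻¹ᵁ V) :
    @Module.Flat Γ(Y, V) Γ(M, U) _ _ (EGA43.QcohFlat.overModule f M V U e) ↔
      ∀ x ∈ U, FlatMod.IsFlatOverAt f M x := by
  let _ := (f.appLE V U e).hom.toAlgebra
  let _ := EGA43.QcohFlat.overModule f M V U e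
  have : IsScalarTower Γ(Y, V) Γ(X, U) Γ(M, U) :=
    IsScalarTower.of_algebraMap_smul fun _ _ => rfl
  constructor
  · intro h x hx
    exact (EGA43.QcohFlat.isFlatOverAt_iff f M hV hU e hx).2 (flat_localizedModule _ _)
  · intro h
    refine Module.flat_of_isLocalized_maximal (R := Γ(Y, V)) (S := Γ(X, U)) Γ(M, U)
      (fun P _ => LocalizedModule P.primeCompl Γ(M, U))
      (fun P _ => LocalizedModule.mkLinearMap _ _) fun P hP => ?_
    obtain ⟨⟨x, hx⟩, hxP⟩ : ∃ x : U, (hU.primeIdealOf x).asIdeal = P :=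
      ⟨⟨hU.fromSpec ⟨P, inferInstance⟩, by
        rw [← SetLike.mem_coe, ← hU.range_fromSpec]; exact ⟨_, rfl⟩⟩,
          congrArg PrimeSpectrum.asIdeal (hU.fromSpec.isOpenEmbedding.injective
            (hU.fromSpec_primeIdealOf _))⟩
    subst hxP
    exact (EGA43.QcohFlat.isFlatOverAt_iff f M hV hU e hx).1 (h x hx)

theorem isFlatOver_iff_affineOpens (f : X ⟶ Y) (M : X.Modules) [Coh.IsQCoh M] :
    FlatMod.IsFlatOver f M ↔ ∀ (U : X.Opens) (V : Y.Opens) (e : U ≤ f ⁻¹ᵁ V),
      IsAffineOpen U → IsAffineOpen V →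
        @Module.Flat Γ(Y, V) Γ(M, U) _ _ (EGA43.QcohFlat.overModule f M V U e) := by
  refine ⟨fun h U V e hU hV => (flat_sections_iff f M hV hU e).2 fun x _ => h x, fun h x => ?_⟩
  obtain ⟨V, hV, hxV, -⟩ := Opens.isBasis_iff_nbhd.mp Y.isBasis_affineOpens
    (Opens.mem_top (f.base x))
  obtain ⟨U, hU, hxU, e⟩ := Opens.isBasis_iff_nbhd.mp X.isBasis_affineOpens
    (show x ∈ f ⁻¹ᵁ V from hxV)
  exact (flat_sections_iff f M hV hU e).1 (h U V e hU hV) x hxU

/-- Flatness at a point is insensitive to pullback along a morphism flat at the point. -/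
theorem isFlatOverAt_pullback_iff {S : Scheme.{u}} (h : X ⟶ Y) (q : Y ⟶ S) (G : Y.Modules) (x : X)
    (hflat : (h.stalkMap x).hom.Flat) :
    FlatMod.IsFlatOverAt q G (h.base x) ↔
      FlatMod.IsFlatOverAt (h ≫ q) ((Scheme.Modules.pullback h).obj G) x := by
  let _ := (h.stalkMap x).hom.toAlgebra
  let _ : Algebra (S.presheaf.stalk ((h ≫ q).base x)) (Y.presheaf.stalk (h.base x)) :=
    (q.stalkMap (h.base x)).hom.toAlgebra
  let _ := ((h ≫ q).stalkMap x).hom.toAlgebra
  have : IsScalarTower (S.presheaf.stalk ((h ≫ q).base x)) (Y.presheaf.stalk (h.base x))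
      (X.presheaf.stalk x) := IsScalarTower.of_algebraMap_eq fun r => by
    change ((h ≫ q).stalkMap x).hom r = (h.stalkMap x).hom ((q.stalkMap (h.base x)).hom r)
    rw [Scheme.Hom.stalkMap_comp]
    rfl
  let _ : Module (S.presheaf.stalk ((h ≫ q).base x)) (G.presheaf.stalk (h.base x)) :=
    FlatMod.moduleStalkOver q G (h.base x)
  let _ := FlatMod.moduleStalkOver (h ≫ q) ((Scheme.Modules.pullback h).obj G) x
  have : IsScalarTower (S.presheaf.stalk ((h ≫ q).base x)) (Y.presheaf.stalk (h.base x))
      (G.presheaf.stalk (h.base x)) := IsScalarTower.of_algebraMap_smul fun _ _ => rfl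
  have : IsScalarTower (S.presheaf.stalk ((h ≫ q).base x)) (X.presheaf.stalk x)
      (((Scheme.Modules.pullback h).obj G).presheaf.stalk x) :=
    IsScalarTower.of_algebraMap_smul fun _ _ => rfl
  have : Module.Flat (Y.presheaf.stalk (h.base x)) (X.presheaf.stalk x) := hflat
  have : IsLocalHom (algebraMap (Y.presheaf.stalk (h.base x)) (X.presheaf.stalk x)) :=
    inferInstanceAs (IsLocalHom (h.stalkMap x).hom)
  have := Module.FaithfullyFlat.of_flat_of_isLocalHom
    (A := Y.presheaf.stalk (h.base x)) (B := X.presheaf.stalk x)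
  let e : ((Scheme.Modules.pullback h).obj G).presheaf.stalk x ≃ₗ[X.presheaf.stalk x]
      (X.presheaf.stalk x) ⊗[Y.presheaf.stalk (h.base x)] (G.presheaf.stalk (h.base x)) :=
    ((ModStalk.pullbackStalkIso h x).app G).toLinearEquiv
  change Module.Flat (S.presheaf.stalk ((h ≫ q).base x)) _ ↔
    Module.Flat (S.presheaf.stalk ((h ≫ q).base x)) _
  rw [Module.Flat.equiv_iff (e.restrictScalars (S.presheaf.stalk ((h ≫ q).base x))),
    flat_tensor_iff_of_faithfullyFlat]

end Groth.Agent.Props12
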