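import Mathlib.AlgebraicGeometry.Noetherian
import Mathlib.AlgebraicGeometry.ValuativeCriterion
import Mathlib.AlgebraicGeometry.Morphisms.Affine
import Mathlib.AlgebraicGeometry.Morphisms.Separated
import Mathlib.AlgebraicGeometry.Limits
import Mathlib.RingTheory.Ideal.KrullsHeightTheorem
import Mathlib.Topology.KrullDimension

/-!
Point-set topology of schemes: heights of points, zero-dimensional schemes.
-/

universe u

open AlgebraicGeometry CategoryTheory TopologicalSpace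

namespace Groth.Agent.Props12

variable {X : Scheme.{u}}

/-- The height of a point: the length of the longest chain of its generizations. -/
noncomputable def ptHeight (x : X) : ℕ∞ :=
  Order.height (IsLocalRing.closedPoint (X.presheaf.stalk x) : PrimeSpectrum (X.presheaf.stalk x))

lemma range_fromSpecStalk' (x : X) :
    Set.range (X.fromSpecStalk x) = {y : X | y ⤳ x} := Scheme.range_fromSpecStalk

lemma fromSpecStalk_injective (x : X) : Function.Injective (X.fromSpecStalk x) :=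
  (X.fromSpecStalk x).isEmbedding.injective

lemma ptHeight_lt [IsLocallyNoetherian X] {x y : X} (h : x ⤳ y) (hne : x ≠ y) :
    ptHeight x < ptHeight y := by
  set φ := (X.presheaf.stalkSpecializes h).hom
  let j : PrimeSpectrum (X.presheaf.stalk x) → PrimeSpectrum (X.presheaf.stalk y) :=
    PrimeSpectrum.comap φ
  have hj : ∀ p, X.fromSpecStalk y (j p) = X.fromSpecStalk x p := fun p ↦
    congr($(Scheme.SpecMap_stalkSpecializes_fromSpecStalk h) p)
  have hinj : Function.Injective j := fun p q hpq ↦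
    fromSpecStalk_injective x (by rw [← hj, ← hj, hpq])
  have hmono : StrictMono j :=
    Monotone.strictMono_of_injective (fun p q hpq ↦ Ideal.comap_mono hpq) hinj
  have h1 : ptHeight x ≤ Order.height (j (IsLocalRing.closedPoint _)) :=
    Order.height_le_height_apply_of_strictMono j hmono _
  refine h1.trans_lt (Order.height_strictMono ?_ ?_)
  · refine lt_of_le_of_ne (IsLocalRing.le_maximalIdeal (j _).2.ne_top) fun he ↦ hne ?_
    have := hj (IsLocalRing.closedPoint _)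
    rw [he, Scheme.fromSpecStalk_closedPoint] at this
    exact (Scheme.fromSpecStalk_closedPoint.symm.trans this.symm)
  · have h2 : (Order.height (j (IsLocalRing.closedPoint _)) : WithBot ℕ∞) ≤
        ringKrullDim (X.presheaf.stalk y) := Order.height_le_krullDim _
    exact WithBot.coe_lt_coe.mp (h2.trans_lt (ringKrullDim_lt_top))

lemma ptHeight_ne_top [IsLocallyNoetherian X] (x : X) : ptHeight x ≠ ⊤ := fun h ↦ by
  have h2 : ((ptHeight x : ℕ∞) : WithBot ℕ∞) ≤ ringKrullDim (X.presheaf.stalk x) :=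
    Order.height_le_krullDim _
  exact (h2.trans_lt ringKrullDim_lt_top).ne (by rw [h]; rfl)

/-- `ptHeight` as a natural number. -/
noncomputable def natHeight (x : X) : ℕ := (ptHeight x).toNat

lemma natHeight_lt [IsLocallyNoetherian X] {x y : X} (h : x ⤳ y) (hne : x ≠ y) :
    natHeight x < natHeight y := by
  have h1 := ptHeight_lt h hne
  rw [natHeight, natHeight]
  obtain ⟨a, ha⟩ := ENat.ne_top_iff_exists.mp (ptHeight_ne_top x)
  obtain ⟨b, hb⟩ := ENat.ne_top_iff_exists.mp (ptHeight_ne_top y)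
  rw [← ha, ← hb] at h1 ⊢
  simpa using h1

/-- A minimal point of `T` (for specialisation) above a given one. -/
theorem exists_maximal_point [IsLocallyNoetherian X] (T : Set X) {t : X} (ht : t ∈ T) :
    ∃ t₀ ∈ T, (∀ t' ∈ T, t' ⤳ t₀ → t' = t₀) ∧ t₀ ⤳ t := by
  classical
  have hne : ∃ n, ∃ t' ∈ T, t' ⤳ t ∧ natHeight t' = n := ⟨_, t, ht, specializes_rfl, rfl⟩
  obtain ⟨t₀, h₀, hs, hn⟩ := Nat.find_spec hne
  refine ⟨t₀, h₀, fun t' ht' hs' ↦ ?_, hs⟩
  by_contra hne'
  exact Nat.find_min hne (hn ▸ natHeight_lt hs' hne') ⟨t', ht', hs'.trans hs, rfl⟩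

/-- An infinite set in a noetherian scheme has an infinite subset without specialisations. -/
theorem exists_infinite_antichain [IsNoetherian X] (T : Set X) (hT : T.Infinite) :
    ∃ T' : Set X, T' ⊆ T ∧ T'.Infinite ∧ ∀ a ∈ T', ∀ b ∈ T', a ⤳ b → a = b := by
  classical
  obtain ⟨Z, hZ, hmin⟩ := (wellFounded_lt (α := Closeds X)).has_min
    {Z : Closeds X | (T ∩ (Z : Set X)).Infinite} ⟨⊤, by simpa using hT⟩
  -- every point of `T ∩ Z`, except possibly one, has only finitely many specialisations there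
  let T₁ : Set X := {a ∈ T ∩ (Z : Set X) | closure {a} ≠ (Z : Set X)}
  have hT₁ : T₁.Infinite := by
    refine ((hZ : (T ∩ (Z : Set X)).Infinite).sdiff (t := {a : X | closure {a} = (Z : Set X)})
      (Set.Subsingleton.finite fun a ha b hb ↦ ?_)).mono fun a ha ↦ ⟨ha.1, ha.2⟩
    exact (inseparable_iff_closure_eq.mpr (ha.trans hb.symm)).eq
  have hfin : ∀ a ∈ T₁, {b ∈ T₁ | a ⤳ b}.Finite := by
    intro a ha
    have hlt : (⟨closure {a}, isClosed_closure⟩ : Closeds X) < Z :=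
      lt_of_le_of_ne (closure_minimal (Set.singleton_subset_iff.mpr ha.1.2) Z.isClosed)
        fun h ↦ ha.2 (congrArg (fun C : Closeds X ↦ (C : Set X)) h)
    exact (Set.not_infinite.mp fun h ↦ hmin ⟨closure {a}, isClosed_closure⟩ h hlt).subset
      fun b hb ↦ ⟨hb.1.1.1, specializes_iff_mem_closure.mp hb.2⟩
  let T₂ : Set X := {b ∈ T₁ | ∀ c ∈ T₁, b ⤳ c → b = c}
  by_cases h₂ : T₂.Infinite
  · exact ⟨T₂, fun b hb ↦ hb.1.1.1, h₂, fun a ha b hb ↦ ha.2 b hb.1⟩
  have hbelow : ∀ a ∈ T₁, ∃ b ∈ T₂, a ⤳ b := by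
    intro a ha
    obtain ⟨b, hb, hbmax⟩ := Set.exists_max_image {b ∈ T₁ | a ⤳ b} natHeight (hfin a ha)
      ⟨a, ha, specializes_rfl⟩
    refine ⟨b, ⟨hb.1, fun c hc hbc ↦ ?_⟩, hb.2⟩
    by_contra hne
    exact absurd (natHeight_lt hbc hne) (not_lt.mpr (hbmax c ⟨hc, hb.2.trans hbc⟩))
  obtain ⟨b, -, hb⟩ : ∃ b ∈ T₂, {a ∈ T₁ | a ⤳ b}.Infinite := by
    by_contra! h
    refine hT₁ (((Set.not_infinite.mp h₂).biUnion fun b hb ↦ h b hb).subset
      fun a ha ↦ ?_)
    obtain ⟨b, hb, hab⟩ := hbelow a ha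
    exact Set.mem_biUnion hb ⟨ha, hab⟩
  obtain ⟨n, hn⟩ : ∃ n, ({a ∈ T₁ | a ⤳ b} ∩ natHeight ⁻¹' {n}).Infinite := by
    by_contra! h
    refine hb (((Set.finite_le_nat (natHeight b)).biUnion fun n _ ↦ h n).subset fun a ha ↦ ?_)
    refine Set.mem_biUnion (?_ : natHeight a ≤ natHeight b) ⟨ha, rfl⟩
    by_cases hab : a = b
    · rw [hab]
    · exact (natHeight_lt ha.2 hab).le
  refine ⟨_, fun a ha ↦ ha.1.1.1.1, hn, fun a ha c hc hac ↦ ?_⟩
  by_contra hne
  have := natHeight_lt hac hne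
  simp only [Set.mem_inter_iff, Set.mem_preimage, Set.mem_singleton_iff] at ha hc
  omega

/-- The closure of a subset splits into finitely many irreducible closed sets in each of which
the subset is dense. -/
lemma exists_decomp [NoetherianSpace X] (S : Set X) :
    ∃ C : Set (Set X), C.Finite ∧ (∀ D ∈ C, IsClosed D) ∧ (∀ D ∈ C, IsIrreducible D) ∧
      closure S = ⋃₀ C ∧ ∀ D ∈ C, D ⊆ closure (S ∩ D) := by
  obtain ⟨C, hC, hC1, hC2, hCU⟩ :=
    NoetherianSpace.exists_finite_set_isClosed_irreducible (isClosed_closure (s := S))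
  let P : Set (Set (Set X)) := {D : Set (Set X) | D ⊆ C ∧ closure S ⊆ ⋃₀ D}
  obtain ⟨C₀, -, hmin⟩ := (hC.finite_subsets.subset
    (fun D hD ↦ hD.1 : P ⊆ {D | D ⊆ C})).exists_le_minimal (show C ∈ P from ⟨le_rfl, hCU.le⟩)
  have hC₀ : C₀ ⊆ C := hmin.1.1
  have hfin₀ : C₀.Finite := hC.subset hC₀
  refine ⟨C₀, hfin₀, fun D hD ↦ hC1 D (hC₀ hD), fun D hD ↦ hC2 D (hC₀ hD),
    Set.Subset.antisymm hmin.1.2 (fun z ⟨D, hD, hz⟩ ↦ hCU.ge ⟨D, hC₀ hD, hz⟩), ?_⟩
  intro D hD x hx
  by_contra hxn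
  have hnc : ¬ closure S ⊆ ⋃₀ (C₀ \ {D}) := fun h ↦ by
    have := hmin.2 (show C₀ \ {D} ∈ P from ⟨Set.sdiff_subset.trans hC₀, h⟩) Set.sdiff_subset hD
    exact this.2 rfl
  have hcl : IsClosed (⋃₀ (C₀ \ {D})) :=
    Set.sUnion_eq_biUnion ▸ (hfin₀.subset Set.sdiff_subset).isClosed_biUnion fun E hE ↦ hC1 E (hC₀ hE.1)
  have hsub : closure S ⊆ closure (S ∩ D) ∪ ⋃₀ (C₀ \ {D}) := by
    refine closure_minimal (fun m hm ↦ ?_) (isClosed_closure.union hcl)
    obtain ⟨E, hE, hmE⟩ := hmin.1.2 (subset_closure hm)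
    by_cases hED : E = D
    · exact Or.inl (subset_closure ⟨hm, hED ▸ hmE⟩)
    · exact Or.inr ⟨E, ⟨hE, hED⟩, hmE⟩
  obtain ⟨ζ, hζ⟩ : ∃ ζ, IsGenericPoint ζ D :=
    QuasiSober.sober (hC2 D (hC₀ hD)) (hC1 D (hC₀ hD))
  rcases hsub (hCU.ge ⟨D, hC₀ hD, hζ.mem⟩) with h | ⟨E, hE, hζE⟩
  · exact hxn ((hζ.specializes hx).mem_closed isClosed_closure h)
  · refine hnc fun p hp ↦ ?_
    obtain ⟨F, hF, hpF⟩ := hmin.1.2 hp
    by_cases hFD : F = D
    · exact ⟨E, hE, (hζ.specializes (hFD ▸ hpF)).mem_closed (hC1 E (hC₀ hE.1)) hζE⟩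
    · exact ⟨F, ⟨hF, hFD⟩, hpF⟩

/-- A set in a noetherian scheme has a countable subset dense in it. -/
theorem exists_countable_dense [IsNoetherian X] (T : Set X) :
    ∃ E : Set X, E ⊆ T ∧ E.Countable ∧ T ⊆ closure E := by
  classical
  suffices h : ∀ Z : Closeds X, IsIrreducible (Z : Set X) → (Z : Set X) ⊆ closure (T ∩ Z) →
      ∃ E : Set X, E ⊆ T ∧ E.Countable ∧ (Z : Set X) ⊆ closure E by
    obtain ⟨C, hC, hC1, hC2, hCU, hd⟩ := exists_decomp T
    choose! E hE1 hE2 hE3 using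
      fun D (hD : D ∈ C) ↦ h ⟨D, hC1 D hD⟩ (hC2 D hD) (hd D hD)
    refine ⟨⋃ D ∈ C, E D, Set.iUnion₂_subset hE1, hC.countable.biUnion hE2, fun t ht ↦ ?_⟩
    obtain ⟨D, hD, htD⟩ := hCU.le (subset_closure ht)
    exact closure_mono (Set.subset_biUnion_of_mem hD) (hE3 D hD htD)
  intro Z
  induction Z using WellFoundedLT.induction with
  | _ Z ih =>
    intro hirr hd
    obtain ⟨η, hη⟩ : ∃ η, IsGenericPoint η (Z : Set X) :=
      QuasiSober.sober hirr Z.isClosed
    by_cases hηT : η ∈ T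
    · exact ⟨{η}, by simpa, Set.countable_singleton η, hη.def.ge⟩
    -- the points whose closure has dense trace of `T`, other than the generic point
    let G : Set X := {p ∈ (Z : Set X) | p ≠ η ∧ closure {p} ⊆ closure (T ∩ closure {p})}
    have hTG : T ∩ (Z : Set X) ⊆ G := fun t ht ↦
      ⟨ht.2, fun h ↦ hηT (h ▸ ht.1),
        closure_mono (Set.singleton_subset_iff.mpr ⟨ht.1, subset_closure rfl⟩)⟩
    let M : Set X := {p ∈ G | ∀ q ∈ G, q ⤳ p → q = p}
    have hM : ∀ t ∈ T ∩ (Z : Set X), ∃ m ∈ M, m ⤳ t := fun t ht ↦ by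
      obtain ⟨m, hm, hmax, hs⟩ := exists_maximal_point G (hTG ht)
      exact ⟨m, ⟨hm, hmax⟩, hs⟩
    have hlt : ∀ p ∈ (Z : Set X), p ≠ η → (⟨closure {p}, isClosed_closure⟩ : Closeds X) < Z := by
      intro p hp hne
      refine lt_of_le_of_ne (closure_minimal (Set.singleton_subset_iff.mpr hp) Z.isClosed) fun h ↦ ?_
      have hpZ : IsGenericPoint p (Z : Set X) := congrArg (fun C : Closeds X ↦ (C : Set X)) h
      exact hne (hpZ.eq hη)
    have hMinf : M.Infinite := by
      intro hfin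
      have hsub : (Z : Set X) ⊆ ⋃ m ∈ M, closure {m} := by
        refine hd.trans (closure_minimal (fun t ht ↦ ?_) (hfin.isClosed_biUnion fun m _ ↦ isClosed_closure))
        obtain ⟨m, hm, hs⟩ := hM t ht
        exact Set.mem_biUnion hm (specializes_iff_mem_closure.mp hs)
      obtain ⟨m, hm, hηm⟩ := Set.mem_iUnion₂.mp (hsub hη.mem)
      exact hm.1.2.1 ((hη.specializes hm.1.1).antisymm
        (specializes_iff_mem_closure.mpr hηm)).eq.symm
    let e := hMinf.natEmbedding M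
    let M₀ : Set X := Set.range fun n ↦ (e n : X)
    have hM₀ : ∀ m ∈ M₀, m ∈ M := by rintro _ ⟨n, rfl⟩; exact (e n).2
    have hM₀inf : M₀.Infinite :=
      Set.infinite_range_of_injective (Subtype.val_injective.comp e.injective)
    have hYZ : closure M₀ ⊆ (Z : Set X) :=
      closure_minimal (fun m hm ↦ (hM₀ m hm).1.1) Z.isClosed
    have hY : η ∈ closure M₀ := by
      by_contra hη'
      obtain ⟨C, hC, hC1, hC2, hCU, hdense⟩ := exists_decomp M₀
      obtain ⟨D, hD, hDinf⟩ : ∃ D ∈ C, (M₀ ∩ D).Infinite := by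
        by_contra! h
        exact hM₀inf ((hC.biUnion fun D hD ↦ h D hD).subset fun m hm ↦ by
          obtain ⟨D, hD, hmD⟩ := hCU.le (subset_closure hm)
          exact Set.mem_biUnion hD ⟨hm, hmD⟩)
      obtain ⟨ζ, hζ⟩ : ∃ ζ, IsGenericPoint ζ D := QuasiSober.sober (hC2 D hD) (hC1 D hD)
      have hζY : ζ ∈ closure M₀ := hCU.ge ⟨D, hD, hζ.mem⟩
      have hζG : ζ ∈ G := by
        refine ⟨hYZ hζY, fun h ↦ hη' (h ▸ hζY), ?_⟩
        rw [hζ.def]
        refine (hdense D hD).trans (closure_minimal (fun m hm ↦ ?_) isClosed_closure)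
        refine closure_mono ?_ ((hM₀ m hm.1).1.2.2 (subset_closure rfl))
        exact Set.inter_subset_inter_right _
          (closure_minimal (Set.singleton_subset_iff.mpr hm.2) (hC1 D hD))
      obtain ⟨m, hm, hmne⟩ := (hDinf.sdiff (Set.finite_singleton ζ)).nonempty
      exact hmne ((hM₀ m hm.1).2 ζ hζG (hζ.specializes hm.2)).symm
    choose E hE1 hE2 hE3 using fun n : ℕ ↦
      ih ⟨closure {(e n : X)}, isClosed_closure⟩ (hlt _ (e n).2.1.1 (e n).2.1.2.1)
        isIrreducible_singleton.closure (e n).2.1.2.2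
    refine ⟨⋃ n, E n, Set.iUnion_subset hE1, Set.countable_iUnion hE2, ?_⟩
    rw [← hη.def]
    refine closure_minimal (Set.singleton_subset_iff.mpr ?_) isClosed_closure
    refine closure_minimal ?_ isClosed_closure hY
    rintro _ ⟨n, rfl⟩
    exact closure_mono (Set.subset_iUnion E n) (hE3 n (subset_closure rfl))

lemma eq_of_specializes_of_dim_le_zero (h : topologicalKrullDim X ≤ 0) {x y : X} (hxy : x ⤳ y) :
    x = y := by
  let a : IrreducibleCloseds X := ⟨closure {x}, isIrreducible_singleton.closure, isClosed_closure⟩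
  let b : IrreducibleCloseds X := ⟨closure {y}, isIrreducible_singleton.closure, isClosed_closure⟩
  have hba : b ≤ a := closure_minimal
    (Set.singleton_subset_iff.mpr (specializes_iff_mem_closure.mp hxy)) isClosed_closure
  have hab := Order.krullDim_nonpos_iff_forall_isMax.mp h b hba
  exact (hxy.antisymm (specializes_iff_mem_closure.mpr (hab (subset_closure rfl)))).eq

/-- A quasi-separated scheme without non-trivial specialisations is separated. -/
theorem isSeparated_of_specializes_eq [QuasiSeparatedSpace X]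
    (h : ∀ x y : X, x ⤳ y → x = y) : X.IsSeparated := by
  have : QuasiSeparated (Limits.terminal.from X) :=
    (quasiSeparatedSpace_iff_quasiSeparated X).mp inferInstance
  refine ⟨IsSeparated.of_valuativeCriterion _ fun S ↦ ⟨fun l₁ l₂ ↦ ?_⟩⟩
  obtain ⟨l₁, hl₁, hl₁'⟩ := l₁
  obtain ⟨l₂, hl₂, hl₂'⟩ := l₂
  congr 1
  clear hl₁' hl₂'
  have hdom : IsDominant (Spec.map (CommRingCat.ofHom (algebraMap S.R S.K))) := by
    refine ⟨(PrimeSpectrum.denseRange_comap_iff_ker_le_nilRadical _).mpr ?_⟩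
    change RingHom.ker (algebraMap S.R S.K) ≤ _
    rw [(RingHom.injective_iff_ker_eq_bot _).mp (IsFractionRing.injective S.R S.K)]
    exact bot_le
  have hx : ∀ l : Spec (.of S.R) ⟶ X,
      Spec.map (CommRingCat.ofHom (algebraMap S.R S.K)) ≫ l = S.i₁ →
      l (IsLocalRing.closedPoint S.R) = S.i₁ (IsLocalRing.closedPoint S.K) := by
    intro l hl
    refine (h _ _ ?_).symm
    rw [← hl]
    exact (IsLocalRing.specializes_closedPoint (R := S.R) _).map l.continuous
  obtain ⟨_, ⟨(U : X.Opens), hU, rfl⟩, hxU, -⟩ := X.isBasis_affineOpens.exists_subset_of_mem_open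
    (Set.mem_univ (l₁ (IsLocalRing.closedPoint S.R))) isOpen_univ
  have : IsAffine (U : Scheme.{u}) := hU
  have hfac : ∀ l : Spec (.of S.R) ⟶ X, l (IsLocalRing.closedPoint S.R) ∈ U →
      ∃ l' : Spec (.of S.R) ⟶ (U : Scheme.{u}), l' ≫ U.ι = l := by
    intro l hl
    refine ⟨IsOpenImmersion.lift U.ι l ?_, IsOpenImmersion.lift_fac _ _ _⟩
    rintro _ ⟨p, rfl⟩
    rw [Scheme.Opens.range_ι]
    have h' : p ∈ l ⁻¹ᵁ U := by
      rw [Scheme.preimage_eq_top_of_closedPoint_mem l hl]; trivial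
    exact h'
  obtain ⟨m₁, rfl⟩ := hfac l₁ hxU
  obtain ⟨m₂, rfl⟩ := hfac l₂ (((hx _ hl₁).trans (hx _ hl₂).symm) ▸ hxU)
  congr 1
  refine ext_of_isDominant (Spec.map (CommRingCat.ofHom (algebraMap S.R S.K))) ?_
  rw [← cancel_mono U.ι, Category.assoc, Category.assoc, hl₁, hl₂]

lemma primeSpectrum_t2Space {A : Type u} [CommRing A]
    (h : ∀ p q : PrimeSpectrum A, p ≤ q → p = q) : T2Space (PrimeSpectrum A) := by
  refine ⟨fun p q hpq ↦ ?_⟩
  obtain ⟨a, hap, haq⟩ : ∃ a ∈ p.asIdeal, a ∉ q.asIdeal :=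
    Set.not_subset.mp fun hle ↦ hpq (h p q hle)
  have hnil : IsNilpotent (algebraMap A (Localization.AtPrime p.asIdeal) a) := by
    rw [← mem_nilradical, nilradical_eq_sInf, Ideal.mem_sInf]
    intro Q hQ
    have : Q.IsPrime := hQ
    have hle : (⟨Q.comap (algebraMap A (Localization.AtPrime p.asIdeal)),
        Ideal.IsPrime.comap _⟩ : PrimeSpectrum A) ≤ p := by
      change Q.comap (algebraMap A (Localization.AtPrime p.asIdeal)) ≤ p.asIdeal
      have := (IsLocalization.isPrime_iff_isPrime_disjoint p.asIdeal.primeCompl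
        (Localization.AtPrime p.asIdeal) Q).mp hQ
      exact fun z hz ↦ by_contra fun hz' ↦ Set.disjoint_left.mp this.2 hz' hz
    have := congrArg PrimeSpectrum.asIdeal (h _ _ hle)
    exact (SetLike.ext_iff.mp this a).mpr hap
  obtain ⟨n, hn⟩ := hnil
  rw [← map_pow, IsLocalization.map_eq_zero_iff p.asIdeal.primeCompl] at hn
  obtain ⟨⟨s, hs⟩, hsa⟩ := hn
  refine ⟨PrimeSpectrum.basicOpen s, PrimeSpectrum.basicOpen a, (PrimeSpectrum.basicOpen s).isOpen,
    (PrimeSpectrum.basicOpen a).isOpen, hs, haq, Set.disjoint_left.mpr fun r hrs hra ↦ ?_⟩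
  rcases r.2.mem_or_mem (hsa ▸ r.asIdeal.zero_mem : s * a ^ n ∈ r.asIdeal) with h' | h'
  · exact hrs h'
  · exact hra (r.2.mem_of_pow_mem n h')

lemma isAffineOpen_t2 (h : ∀ x y : X, x ⤳ y → x = y) {U : X.Opens} (hU : IsAffineOpen U) :
    T2Space (U : Scheme.{u}) := by
  have hA : T2Space (Spec Γ(X, U)) := primeSpectrum_t2Space fun p q hpq ↦
    hU.fromSpec.isEmbedding.injective
      (h _ _ (((PrimeSpectrum.le_iff_specializes p q).mp hpq).map hU.fromSpec.continuous))
  exact hU.isoSpec.hom.homeomorph.symm.t2Space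

theorem t2Space_of_isSeparated [X.IsSeparated] (h : ∀ x y : X, x ⤳ y → x = y) : T2Space X := by
  refine ⟨fun x y hxy ↦ ?_⟩
  obtain ⟨_, ⟨(U : X.Opens), hU, rfl⟩, hxU, -⟩ :=
    X.isBasis_affineOpens.exists_subset_of_mem_open (Set.mem_univ x) isOpen_univ
  obtain ⟨_, ⟨(V : X.Opens), hV, rfl⟩, hyV, -⟩ :=
    X.isBasis_affineOpens.exists_subset_of_mem_open (Set.mem_univ y) isOpen_univ
  have : T2Space (U : Scheme.{u}) := isAffineOpen_t2 h hU
  have : T2Space (V : Scheme.{u}) := isAffineOpen_t2 h hV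
  by_cases hyU : y ∈ U
  · obtain ⟨O₁, O₂, h1, h2, hx1, hy2, hd⟩ :=
      @t2_separation (U : Scheme.{u}) _ _ ⟨x, hxU⟩ ⟨y, hyU⟩
        (fun e ↦ hxy (congrArg Subtype.val e))
    exact ⟨_, _, U.isOpenEmbedding'.isOpenMap _ h1, U.isOpenEmbedding'.isOpenMap _ h2,
      ⟨_, hx1, rfl⟩, ⟨_, hy2, rfl⟩, (Set.disjoint_image_iff Subtype.val_injective).mpr hd⟩
  · have hc : IsClosed (Subtype.val ⁻¹' (U : Set X) : Set (V : Scheme.{u})) := by
      refine IsCompact.isClosed ?_
      have h1 : Subtype.val '' (Subtype.val ⁻¹' (U : Set X) : Set (V : Scheme.{u})) =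
          ((U ⊓ V : X.Opens) : Set X) := by
        ext z
        exact ⟨fun ⟨w, hw, e⟩ ↦ e ▸ ⟨hw, w.2⟩, fun hz ↦ ⟨⟨z, hz.2⟩, hz.1, rfl⟩⟩
      exact V.ι.isEmbedding.isCompact_iff.mpr (h1 ▸ (hU.inf hV).isCompact)
    exact ⟨U, Subtype.val '' (Subtype.val ⁻¹' (U : Set X) : Set V)ᶜ, U.isOpen,
      V.isOpenEmbedding'.isOpenMap _ hc.isOpen_compl, hxU, ⟨⟨y, hyV⟩, hyU, rfl⟩,
      Set.disjoint_left.mpr (by rintro z hz ⟨⟨w, hw⟩, hw', rfl⟩; exact hw' hz)⟩

theorem isAffineOpen_of_isCompact [T2Space X] (U : X.Opens) (hU : IsCompact (U : Set X)) :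
    IsAffineOpen U := by
  refine compact_open_induction_on (P := fun U ↦ IsAffineOpen U) U hU (isAffineOpen_bot X)
    fun S hS W hS' ↦ ?_
  let c : X.Opens := ⟨((W : X.Opens) : Set X) \ (S : Set X), W.1.isOpen.sdiff hS.isClosed⟩
  have hc : IsAffineOpen c := by
    have hcl : IsClopen ((W : X.Opens).ι ⁻¹ᵁ c : Set (W : X.Opens)) := by
      refine ⟨IsClosed.preimage (W : X.Opens).ι.continuous (t := (c : Set X)) ?_,
        ((W : X.Opens).ι ⁻¹ᵁ c).isOpen⟩
      exact (W.2.isCompact.diff S.isOpen).isClosed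
    have : IsAffine ((W : X.Opens) : Scheme.{u}) := W.2
    have h1 : IsAffineOpen ((W : X.Opens).ι ⁻¹ᵁ c) := by
      obtain ⟨e, he, hc⟩ := PrimeSpectrum.isClopen_iff.mp
        (hcl.preimage ((W : X.Opens) : Scheme.{u}).isoSpec.inv.continuous)
      have : (W : X.Opens).ι ⁻¹ᵁ c = ((W : X.Opens) : Scheme.{u}).basicOpen e := by
        rw [← Scheme.toSpecΓ_preimage_basicOpen]
        ext z
        have h3 := Set.ext_iff.mp hc (((W : X.Opens) : Scheme.{u}).isoSpec.hom z)
        have h4 : ((W : X.Opens) : Scheme.{u}).isoSpec.inv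
            (((W : X.Opens) : Scheme.{u}).isoSpec.hom z) = z :=
          congr($(((W : X.Opens) : Scheme.{u}).isoSpec.hom_inv_id) z)
        rw [Set.mem_preimage, h4] at h3
        exact h3
      rw [this]
      exact (isAffineOpen_top _).basicOpen e
    have := h1.image_of_isOpenImmersion (W : X.Opens).ι
    rwa [Scheme.Hom.image_preimage_eq_opensRange_inf, Scheme.Opens.opensRange_ι,
      inf_eq_right.mpr (show c ≤ (W : X.Opens) from fun z hz ↦ hz.1)] at this
  have he : S ⊔ (W : X.Opens) = S ⊔ c := by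
    ext z
    simp only [Opens.coe_sup, Set.mem_union, c, Opens.coe_mk, Set.mem_sdiff]
    tauto
  rw [he]
  exact hS'.sup_of_disjoint hc
    (Opens.coe_disjoint.mp (by exact Set.disjoint_sdiff_right))

theorem isClosed_range_of_stableUnderSpecialization {Y : Scheme.{u}} (f : X ⟶ Y) [QuasiCompact f]
    (hs : StableUnderSpecialization (Set.range f)) : IsClosed (Set.range f) := by
  wlog hY : ∃ R, Y = Spec R generalizing X Y
  · rw [Y.affineCover.isOpenCover_opensRange.isClosed_iff_coe_preimage]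
    intro i
    have hqc : QuasiCompact (Y.affineCover.pullbackHom f i) :=
      MorphismProperty.pullback_snd _ _ ‹_›
    have hr : Set.range (Y.affineCover.pullbackHom f i) = Y.affineCover.f i ⁻¹' Set.range f :=
      Scheme.Pullback.range_snd f _
    have h1 := this (Y.affineCover.pullbackHom f i)
      (hr ▸ hs.preimage (Y.affineCover.f i).continuous) ⟨_, rfl⟩
    rw [hr] at h1
    have h2 := (Y.affineCover.f i).isOpenEmbedding.isEmbedding.toHomeomorph.isClosed_preimage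
      (s := Subtype.val ⁻¹' Set.range f)
    exact h2.mp h1
  obtain ⟨S, rfl⟩ := hY
  obtain ⟨R, g, hg⟩ := compactSpace_iff_exists.mp (QuasiCompact.compactSpace_of_compactSpace f)
  obtain ⟨φ, hφ⟩ := Spec.homEquiv.symm.surjective (g ≫ f)
  have hr : Set.range f = PrimeSpectrum.comap φ.hom '' Set.univ := by
    rw [Set.image_univ, ← hg.range_comp f]
    exact (congrArg (fun h : Spec R ⟶ Spec S ↦ Set.range h) hφ).symm
  rw [hr] at hs ⊢
  exact PrimeSpectrum.isClosed_image_of_stableUnderSpecialization φ.hom _ isClosed_univ hs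

end Groth.Agent.Props12
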