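import Groth.Agent.Props12.FinLocFree
import Groth.Agent.EGA43.FlatSyzygy
import Mathlib.AlgebraicGeometry.Modules.Tilde
import Mathlib.RingTheory.Flat.EquationalCriterion

/-!
# Finiteness conditions on the sheaf associated to a module
-/

set_option autoImplicit false
set_option backward.isDefEq.respectTransparency false

universe u

open CategoryTheory CategoryTheory.Limits AlgebraicGeometry Opposite TopologicalSpace
open Groth.Agent.Coherent

namespace Groth.Agent.Props12

variable {R : CommRingCat.{u}} (M : ModuleCat.{u} R)

theorem bijective_algebraMap_top :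
    Function.Bijective (algebraMap R Γ(Spec R, ⊤)) := by
  exact ConcreteCategory.bijective_of_isIso (Scheme.ΓSpecIso R).inv

/-- Global sections of the associated sheaf. -/
noncomputable def topEquiv : M ≃ₗ[R] Γ(tilde M, ⊤) :=
  (tilde.isoTop M).toLinearEquiv

theorem finite_top_iff :
    Module.Finite Γ(Spec R, ⊤) Γ(tilde M, ⊤) ↔ Module.Finite R M := by
  constructor
  · intro h
    have : Module.Finite R Γ(Spec R, ⊤) :=
      Module.Finite.of_surjective (Algebra.linearMap R Γ(Spec R, ⊤)) bijective_algebraMap_top.2
    have : Module.Finite R Γ(tilde M, ⊤) := Module.Finite.trans Γ(Spec R, ⊤) _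
    exact Module.Finite.equiv (topEquiv M).symm
  · intro h
    have := Module.Finite.equiv (topEquiv M)
    exact Module.Finite.of_restrictScalars_finite R _ _

theorem finitePresentation_top_iff :
    Module.FinitePresentation Γ(Spec R, ⊤) Γ(tilde M, ⊤) ↔ Module.FinitePresentation R M := by
  constructor
  · intro h
    have : Module.FinitePresentation R Γ(Spec R, ⊤) := Module.FinitePresentation.of_equiv
      (LinearEquiv.ofBijective (Algebra.linearMap R Γ(Spec R, ⊤)) bijective_algebraMap_top)
    have : Module.FinitePresentation R Γ(tilde M, ⊤) :=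
      Module.FinitePresentation.trans _ _ Γ(Spec R, ⊤)
    exact Module.FinitePresentation.of_equiv (topEquiv M).symm
  · intro h
    have := Module.FinitePresentation.of_equiv (topEquiv M)
    exact EGA43.FlatSyzygy.finitePresentation_of_surjective_algebraMap (Q := R)
      bijective_algebraMap_top.2

theorem isQCoh_tilde : Coh.IsQCoh (tilde M) := inferInstance

theorem isFP_tilde_iff : CohB1.IsFP (tilde M) ↔ Module.FinitePresentation R M := by
  have := isQCoh_tilde M
  constructor
  · exact fun h => (finitePresentation_top_iff M).1
      (EGA43.QcohFP.finitePresentation_sections _ h (isAffineOpen_top _))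
  · exact fun h => EGA43.FPKernel.isFP_of_forall_exists_affine _ fun x =>
      ⟨⊤, isAffineOpen_top _, trivial, (finitePresentation_top_iff M).2 h⟩

theorem isFT_tilde_iff : CohB1.IsFT (tilde M) ↔ Module.Finite R M := by
  have := isQCoh_tilde M
  constructor
  · exact fun h => (finite_top_iff M).1
      (finite_sections _ (locallyFinGen_of_isFT _ h) (isAffineOpen_top _))
  · exact fun h => isFT_of_locallyFinGen (locallyFinGen_of_finite_sections _
      (fun _ : PUnit.{u + 1} => ⊤) (fun _ => isAffineOpen_top _) (fun _ => ⟨⟨⟩, trivial⟩)
      fun _ => (finite_top_iff M).2 h)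

theorem isFinLocFree_tilde_iff :
    FlatMod.IsFinLocFree (tilde M) ↔ Module.Finite R M ∧ Module.Projective R M := by
  have := isQCoh_tilde M
  constructor
  · intro h
    have hFP := isFP_of_isFinLocFree _ h
    have := (isFP_tilde_iff M).1 hFP
    have hflat : Module.Flat R Γ(tilde M, ⊤) := by
      have : Module.Flat R Γ(Spec R, ⊤) := Module.Flat.of_linearEquiv
        (LinearEquiv.ofBijective (Algebra.linearMap R Γ(Spec R, ⊤)) bijective_algebraMap_top).symm
      have : Module.Flat Γ(Spec R, ⊤) Γ(tilde M, ⊤) := flat_sections_of_isFlat _
        (isFlat_of_isFinLocFree _ h) (isAffineOpen_top _)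
      exact Module.Flat.trans R Γ(Spec R, ⊤) _
    have : Module.Flat R M := Module.Flat.of_linearEquiv (topEquiv M)
    exact ⟨inferInstance, Module.Flat.projective_of_finitePresentation⟩
  · rintro ⟨_, _⟩
    have hFP := (isFP_tilde_iff M).2 (Module.finitePresentation_of_projective R M)
    refine isFinLocFree_of_isFP_of_free_stalks _ hFP fun x => ?_
    have hFT : CohB1.IsFT (tilde M) := (isFT_tilde_iff M).2 inferInstance
    have := finite_stalk_of_isFT _ hFT x
    have : Module.Flat ((Spec R).presheaf.stalk x) ((tilde M).presheaf.stalk x) := by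
      have : Module.Flat R Γ(tilde M, ⊤) := Module.Flat.of_linearEquiv (topEquiv M).symm
      have : Module.Flat Γ(Spec R, ⊤) Γ(tilde M, ⊤) := flat_of_bijective bijective_algebraMap_top
      exact flat_stalk_of_flat_sections _ (isAffineOpen_top _) trivial
    exact Module.free_of_flat_of_isLocalRing

end Groth.Agent.Props12
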