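import Groth.Agent.H8Lim.ModFPDescent
import Groth.Agent.Coherent.SubFTApps

/-!
# Finite type modules as directed colimits of finitely presented ones with surjective transitions
-/

set_option autoImplicit false
set_option backward.isDefEq.respectTransparency false

universe u

open CategoryTheory CategoryTheory.Limits AlgebraicGeometry Opposite TopologicalSpace
open Groth.Agent.Coherent Groth.Agent.AssSch12

namespace Groth.Agent.Props12.FPColimit

variable {X : Scheme.{u}}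

/-- A finite type module is a quotient of a finitely presented one. -/
theorem exists_epi [CompactSpace X] [QuasiSeparatedSpace X] (F : X.Modules) [Coh.IsQCoh F]
    (hF : CohB1.IsFT F) :
    ∃ (P : X.Modules) (p : P ⟶ F), Coh.IsQCoh P ∧ CohB1.IsFP P ∧ Epi p := by
  obtain ⟨P, φ, h1, h2, h3⟩ := H8Lim.exists_epi_pullback_fp (𝟙 X) F hF
  exact ⟨P, ((Scheme.Modules.pullbackId X).app P).inv ≫ φ, h1, h2, inferInstance⟩

/-- Sections killed locally are killed. -/
theorem app_eq_zero_of_local {M N : X.Modules} (f : M ⟶ N) {W : X.Opens} (a : Γ(M, W))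
    (h : ∀ y ∈ W, ∃ (W' : X.Opens) (hle : W' ≤ W), y ∈ W' ∧ f.app W' (resM M hle a) = 0) :
    f.app W a = 0 := by
  choose V hV hyV hz using fun y : W => h y.1 y.2
  refine TopCat.Sheaf.eq_of_locally_eq' (X := X.toTopCat) (Coh.toAb N) V W
    (fun y => homOfLE (hV y)) (fun y hy => Opens.mem_iSup.2 ⟨⟨y, hy⟩, hyV ⟨y, hy⟩⟩) _ _ fun y => ?_
  change resM N (hV y) (f.app W a) = resM N (hV y) 0
  rw [map_zero, ← app_resM, hz y]

variable {K : X.Modules}

/-- Good submodules, ordered by their sections. -/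
def Idx (K : X.Modules) : Type u := {Q : SubM K // Q.Good ⊤}

instance : LE (Idx K) := ⟨fun Q Q' => ∀ W, Q.1.carrier W ≤ Q'.1.carrier W⟩

instance : PartialOrder (Idx K) where
  le := (· ≤ ·)
  le_refl _ _ := le_rfl
  le_trans _ _ _ h h' W := (h W).trans (h' W)
  le_antisymm Q Q' h h' := by
    obtain ⟨⟨c, r, l⟩, g⟩ := Q
    obtain ⟨⟨c', r', l'⟩, g'⟩ := Q'
    have : c = c' := funext fun W => le_antisymm (h W) (h' W)
    subst this
    rfl

instance : IsDirected (Idx K) (· ≤ ·) :=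
  ⟨fun Q Q' => ⟨⟨SubM.sum (fun b : ULift.{u} Bool => if b.down then Q.1 else Q'.1),
      SubM.good_sum _ (fun b => by cases b with | up b => cases b; exacts [Q'.2, Q.2])⟩,
    fun W => SubM.le_sum (fun b : ULift.{u} Bool => if b.down then Q.1 else Q'.1) ⟨true⟩ W,
    fun W => SubM.le_sum (fun b : ULift.{u} Bool => if b.down then Q.1 else Q'.1) ⟨false⟩ W⟩⟩

instance : Nonempty (Idx K) :=
  ⟨⟨SubM.sum (fun x : PEmpty.{u + 1} => x.elim), SubM.good_sum _ fun x => x.elim⟩⟩

variable {P F : X.Modules} (p : P ⟶ F)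

/-- The quotient by a good submodule of the kernel. -/
noncomputable def obj (Q : Idx (kernel p)) : X.Modules := cokernel (Q.1.toι ≫ kernel.ι p)

theorem comp_π_eq_zero {Q Q' : Idx (kernel p)} (h : Q ≤ Q') :
    (Q.1.toι ≫ kernel.ι p) ≫ cokernel.π (Q'.1.toι ≫ kernel.ι p) = 0 := by
  refine Scheme.Modules.hom_ext _ _ fun W => ?_
  ext a
  obtain ⟨b, hb⟩ := Q'.1.mem_range_toι.2 (h W (Q.1.mem_range_toι.1 ⟨a, rfl⟩))
  show (cokernel.π (Q'.1.toι ≫ kernel.ι p)).app W ((kernel.ι p).app W (Q.1.toι.app W a)) = _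
  rw [← hb]
  exact congr($(cokernel.condition (Q'.1.toι ≫ kernel.ι p)) |>.app W b)

/-- The system of quotients. -/
noncomputable def diagram : Idx (kernel p) ⥤ X.Modules where
  obj Q := obj p Q
  map h := cokernel.desc _ (cokernel.π _) (comp_π_eq_zero p (leOfHom h))
  map_id Q := by
    rw [← cancel_epi (cokernel.π (Q.1.toι ≫ kernel.ι p))]
    exact (cokernel.π_desc _ _ _).trans (Category.comp_id _).symm
  map_comp {Q _ _} f g := by
    rw [← cancel_epi (cokernel.π (Q.1.toι ≫ kernel.ι p))]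
    simp only [cokernel.π_desc, cokernel.π_desc_assoc]

/-- The cocone. -/
noncomputable def ι : diagram p ⟶ (Functor.const (Idx (kernel p))).obj F where
  app Q := cokernel.desc _ p (by rw [Category.assoc, kernel.condition, comp_zero])
  naturality Q _ f := by
    rw [← cancel_epi (cokernel.π (Q.1.toι ≫ kernel.ι p))]
    simp [diagram]

theorem π_ι (Q : Idx (kernel p)) :
    cokernel.π (Q.1.toι ≫ kernel.ι p) ≫ (ι p).app Q = p := cokernel.π_desc _ _ _

/-- It is a colimit. -/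
theorem nonempty_isColimit [CompactSpace X] [QuasiSeparatedSpace X] [Coh.IsQCoh P] [Coh.IsQCoh F]
    [Epi p] : Nonempty (IsColimit (Cocone.mk F (ι p))) := by
  classical
  have : Coh.IsQCoh (kernel p) := isQCoh_kernel p
  let Q₀ : Idx (kernel p) := Classical.arbitrary _
  let t : ∀ s : Cocone (diagram p), P ⟶ s.pt :=
    fun s => cokernel.π (Q₀.1.toι ≫ kernel.ι p) ≫ s.ι.app Q₀
  have ht : ∀ (s : Cocone (diagram p)) (Q : Idx (kernel p)),
      cokernel.π (Q.1.toι ≫ kernel.ι p) ≫ s.ι.app Q = t s := by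
    intro s Q
    have key : ∀ {Q Q' : Idx (kernel p)} (_ : Q ≤ Q'),
        cokernel.π (Q.1.toι ≫ kernel.ι p) ≫ s.ι.app Q =
          cokernel.π (Q'.1.toι ≫ kernel.ι p) ≫ s.ι.app Q' := fun {Q Q'} h => by
      rw [← s.w (homOfLE h)]
      exact cokernel.π_desc_assoc _ _ _ _
    obtain ⟨R, hR, hR₀⟩ := exists_ge_ge Q Q₀
    exact (key hR).trans (key hR₀).symm
  have hzero : ∀ s : Cocone (diagram p), kernel.ι p ≫ t s = 0 := by
    intro s
    refine Scheme.Modules.hom_ext _ _ fun W => ?_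
    ext a
    refine app_eq_zero_of_local (kernel.ι p ≫ t s) a fun y hy => ?_
    obtain ⟨V, hV, hyV, hVW⟩ :=
      Opens.isBasis_iff_nbhd.mp X.isBasis_affineOpens (U := W) hy
    obtain ⟨Q, hQ, hmem⟩ := exists_good_containing_qcqs (F := kernel p) hV.isCompact
      (fun _ : PUnit.{u + 1} => resM (kernel p) hVW a)
    obtain ⟨b, hb⟩ := Q.mem_range_toι.2 (hmem PUnit.unit)
    refine ⟨V, hVW, hyV, ?_⟩
    rw [← hb, ← ht s ⟨Q, hQ⟩]
    have h0 : (Q.toι ≫ kernel.ι p) ≫ cokernel.π (Q.toι ≫ kernel.ι p) ≫ s.ι.app ⟨Q, hQ⟩ = 0 := by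
      rw [cokernel.condition_assoc, zero_comp]
    exact congr($h0 |>.app V b)
  refine ⟨{ desc := fun s => Abelian.epiDesc p (t s) (hzero s)
            fac := fun s Q => ?_
            uniq := fun s m hm => ?_ }⟩
  · rw [← cancel_epi (cokernel.π (Q.1.toι ≫ kernel.ι p)), ← Category.assoc]
    show (cokernel.π (Q.1.toι ≫ kernel.ι p) ≫ (ι p).app Q) ≫ _ = _
    rw [π_ι, Abelian.comp_epiDesc]
    exact (ht s Q).symm
  · rw [← cancel_epi p, Abelian.comp_epiDesc]
    exact ((congrArg (· ≫ m) (π_ι p Q₀)).symm.trans (Category.assoc _ _ _)).trans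
      (congrArg (cokernel.π (Q₀.1.toι ≫ kernel.ι p) ≫ ·) (hm Q₀))

theorem isFP_obj [Coh.IsQCoh P] [Coh.IsQCoh F] (hP : CohB1.IsFP P) (Q : Idx (kernel p)) :
    CohB1.IsFP (obj p Q) := by
  have : Coh.IsQCoh (kernel p) := isQCoh_kernel p
  have := SubM.isQCoh Q.2
  exact H8Lim.isFP_cokernel _ (SubM.isFT Q.2) hP

theorem epi_map {Q Q' : Idx (kernel p)} (h : Q ⟶ Q') : Epi ((diagram p).map h) := by
  have : Epi (cokernel.π (Q.1.toι ≫ kernel.ι p) ≫ (diagram p).map h) := by
    show Epi (_ ≫ cokernel.desc _ _ _)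
    rw [cokernel.π_desc]; infer_instance
  exact epi_of_epi (cokernel.π (Q.1.toι ≫ kernel.ι p)) _

end Groth.Agent.Props12.FPColimit
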