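import Groth.Agent.CAlgH.Nagata
import Mathlib.RingTheory.FiniteType
import Mathlib.AlgebraicGeometry.Properties

/-! Universally Japanese rings and localization. -/

universe u

set_option autoImplicit false

namespace Groth.Agent.Props12

theorem isUniversallyJapanese_of_finiteType {R R' : Type u} [CommRing R] [CommRing R'] [Algebra R R']
    [Algebra.FiniteType R R'] (h : CAlg.IsUniversallyJapanese R) : CAlg.IsUniversallyJapanese R' := by
  intro S _ _ _ hS
  let _ : Algebra R S := ((algebraMap R' S).comp (algebraMap R R')).toAlgebra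
  have : IsScalarTower R R' S := .of_algebraMap_eq fun _ => rfl
  exact h S (Algebra.FiniteType.trans (S := R') inferInstance hS)

theorem isUniversallyJapanese_of_cover {R : Type u} [CommRing R] (s : Finset R)
    (hs : Ideal.span (s : Set R) = ⊤) (Rf : s → Type u) [∀ i, CommRing (Rf i)] [∀ i, Algebra R (Rf i)]
    [∀ i : s, IsLocalization.Away (i : R) (Rf i)] (h : ∀ i, CAlg.IsUniversallyJapanese (Rf i)) :
    CAlg.IsUniversallyJapanese R := by
  intro S _ _ _ hS
  let ν := {i : s // algebraMap R S i ≠ 0}
  let g : ν → S := fun i => algebraMap R S i.1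
  have hg : Ideal.span (Set.range g) = ⊤ := by
    rw [← top_le_iff, ← Ideal.map_top (algebraMap R S), ← hs, Ideal.map_span, Ideal.span_le]
    rintro _ ⟨r, hr, rfl⟩
    by_cases h0 : algebraMap R S r = 0
    · rw [h0]; exact Ideal.zero_mem _
    · exact Ideal.subset_span ⟨⟨⟨r, hr⟩, h0⟩, rfl⟩
  have : ∀ i : ν, IsDomain (Localization.Away (g i)) := fun i =>
    IsLocalization.isDomain_localization (powers_le_nonZeroDivisors_of_noZeroDivisors i.2)
  refine CAlgH.isN2_of_cover S g hg (fun i => Localization.Away (g i)) fun i => ?_
  have hu : IsUnit (algebraMap R (Localization.Away (g i)) (i.1 : R)) := by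
    rw [IsScalarTower.algebraMap_apply R S (Localization.Away (g i))]
    exact IsLocalization.Away.algebraMap_isUnit (g i)
  let _ : Algebra (Rf i.1) (Localization.Away (g i)) :=
    (IsLocalization.Away.lift (i.1 : R) hu).toAlgebra
  have : IsScalarTower R (Rf i.1) (Localization.Away (g i)) :=
    .of_algebraMap_eq fun r => (IsLocalization.Away.lift_eq (i.1 : R) hu r).symm
  have : Algebra.FiniteType R (Localization.Away (g i)) :=
    Algebra.FiniteType.trans (S := S) hS inferInstance
  exact h i.1 _ (Algebra.FiniteType.of_restrictScalars_finiteType R (Rf i.1) _)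

end Groth.Agent.Props12
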