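import Groth.Prelude.Def_W4stktopologysheavesDim
import Groth.Prelude.Def_Found
import Mathlib.AlgebraicGeometry.Stalk
import Mathlib.AlgebraicGeometry.Properties

/-! Catenary schemes. -/

universe u v

set_option autoImplicit false

open AlgebraicGeometry CategoryTheory TopologicalSpace

namespace Groth.Agent.Props12

/-- Catenarity of a partially ordered set. -/
def OCat (P : Type*) [PartialOrder P] : Prop :=
  (∀ p q : P, p ≤ q → ∃ n : ℕ, ∀ s : LTSeries P, s.head = p → s.last = q → s.length ≤ n) ∧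
  ∀ s t : LTSeries P, s.head = t.head → s.last = t.last →
    (∀ i : Fin s.length, s (Fin.castSucc i) ⋖ s (Fin.succ i)) →
    (∀ i : Fin t.length, t (Fin.castSucc i) ⋖ t (Fin.succ i)) →
    s.length = t.length

variable {P : Type u} {Q : Type v} [PartialOrder P] [PartialOrder Q]

/-- Reversal of a series into the dual order. -/
def dualSeries (s : LTSeries P) : LTSeries Pᵒᵈ :=
  LTSeries.mk s.length (fun i => OrderDual.toDual (s i.rev)) fun _ _ h => s.strictMono (Fin.rev_lt_rev.2 h)

/-- Reversal of a series out of the dual order. -/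
def undualSeries (s : LTSeries Pᵒᵈ) : LTSeries P :=
  LTSeries.mk s.length (fun i => OrderDual.ofDual (s i.rev)) fun _ _ h => s.strictMono (Fin.rev_lt_rev.2 h)

theorem OCat.dual (h : OCat P) : OCat Pᵒᵈ := by
  have hh : ∀ s : LTSeries Pᵒᵈ, (undualSeries s).head = OrderDual.ofDual s.last := fun s => by
    show OrderDual.ofDual (s (Fin.rev 0)) = _
    rw [Fin.rev_zero]; rfl
  have hl : ∀ s : LTSeries Pᵒᵈ, (undualSeries s).last = OrderDual.ofDual s.head := fun s => by
    show OrderDual.ofDual (s (Fin.rev (Fin.last _))) = _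
    simp [undualSeries, RelSeries.head]
  refine ⟨fun p q hpq => ?_, fun s t h1 h2 hs ht => ?_⟩
  · obtain ⟨n, hn⟩ := h.1 (OrderDual.ofDual q) (OrderDual.ofDual p) hpq
    exact ⟨n, fun s e1 e2 => hn (undualSeries s) (by rw [hh, e2]) (by rw [hl, e1])⟩
  · have hc : ∀ s : LTSeries Pᵒᵈ, (∀ i : Fin s.length, s (Fin.castSucc i) ⋖ s (Fin.succ i)) →
        ∀ i : Fin (undualSeries s).length,
          undualSeries s (Fin.castSucc i) ⋖ undualSeries s (Fin.succ i) := fun s hs i => by
      show OrderDual.ofDual (s (Fin.rev (Fin.castSucc i))) ⋖ OrderDual.ofDual (s (Fin.rev (Fin.succ i)))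
      rw [Fin.rev_castSucc, Fin.rev_succ]
      exact ofDual_covBy_ofDual_iff.2 (hs _)
    exact h.2 (undualSeries s) (undualSeries t) (by rw [hh, hh, h2]) (by rw [hl, hl, h1])
      (hc s hs) (hc t ht)

theorem OCat.of_upper (e : Q ↪o P) (hup : IsUpperSet (Set.range e)) (h : OCat P) : OCat Q := by
  have hcov : ∀ a b, a ⋖ b → e a ⋖ e b := fun a b hab => by
    refine ⟨e.strictMono hab.1, fun x h1 h2 => ?_⟩
    obtain ⟨y, rfl⟩ := hup h1.le ⟨a, rfl⟩
    exact hab.2 (e.lt_iff_lt.mp h1) (e.lt_iff_lt.mp h2)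
  refine ⟨fun p q hpq => ?_, fun s t h1 h2 hs ht => ?_⟩
  · obtain ⟨n, hn⟩ := h.1 (e p) (e q) (e.monotone hpq)
    exact ⟨n, fun s h1 h2 => hn (s.map e e.strictMono) (by simp [← h1]) (by simp [← h2])⟩
  · exact h.2 (s.map e e.strictMono) (t.map e e.strictMono) (congrArg e h1) (congrArg e h2)
      (fun i => hcov _ _ (hs i)) (fun i => hcov _ _ (ht i))

theorem exists_series_lift (e : Q ↪o P) (hup : IsUpperSet (Set.range e)) (s : LTSeries P)
    (h : s.head ∈ Set.range e) : ∃ t : LTSeries Q, t.map e e.strictMono = s := by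
  have hmem : ∀ i, s i ∈ Set.range e := fun i => hup (s.monotone (Fin.zero_le i)) h
  choose f hf using hmem
  exact ⟨LTSeries.mk s.length f fun i j hij => e.lt_iff_lt.1 (by rw [hf, hf]; exact s.strictMono hij),
    RelSeries.ext rfl (funext hf)⟩

theorem OCat.of_cover (H : ∀ a : P, ∃ (Q : Type v) (_ : PartialOrder Q) (e : Q ↪o P),
    IsUpperSet (Set.range e) ∧ a ∈ Set.range e ∧ OCat Q) : OCat P := by
  refine ⟨fun p q hpq => ?_, fun s t h1 h2 hs ht => ?_⟩
  · obtain ⟨Q, _, e, hup, ⟨p', rfl⟩, hQ⟩ := H p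
    obtain ⟨q', rfl⟩ := hup hpq ⟨p', rfl⟩
    obtain ⟨n, hn⟩ := hQ.1 p' q' (e.le_iff_le.1 hpq)
    refine ⟨n, fun s e1 e2 => ?_⟩
    obtain ⟨t, rfl⟩ := exists_series_lift e hup s (e1 ▸ ⟨p', rfl⟩)
    exact hn t (e.injective e1) (e.injective e2)
  · obtain ⟨Q, _, e, hup, hs0, hQ⟩ := H s.head
    obtain ⟨s', rfl⟩ := exists_series_lift e hup s hs0
    obtain ⟨t', rfl⟩ := exists_series_lift e hup t (h1 ▸ hs0)
    have hcov : ∀ a b, e a ⋖ e b → a ⋖ b := fun a b hab =>
      ⟨e.lt_iff_lt.1 hab.1, fun x h1 h2 => hab.2 (e.lt_iff_lt.2 h1) (e.lt_iff_lt.2 h2)⟩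
    exact hQ.2 s' t' (e.injective h1) (e.injective h2) (fun i => hcov _ _ (hs i))
      (fun i => hcov _ _ (ht i))

section Space

variable {X : Type u} [TopologicalSpace X]

theorem le_codim_extend {T T' : IrreducibleCloseds X} (s : LTSeries (IrreducibleCloseds X))
    (h1 : s.head = T) (h2 : (s.last : Set X) ⊆ T') :
    ∃ t : LTSeries (IrreducibleCloseds X), t.head = T ∧ t.last = T' ∧ s.length ≤ t.length := by
  rcases eq_or_lt_of_le (show s.last ≤ T' from h2) with h | h
  · exact ⟨s, h1, h, le_rfl⟩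
  · exact ⟨s.snoc T' h, by simpa using h1, by simp, by simp⟩

theorem codim_le_of_bound {T T' : IrreducibleCloseds X} {n : ℕ}
    (hn : ∀ s : LTSeries (IrreducibleCloseds X), s.head = T → s.last = T' → s.length ≤ n) :
    PtTop.codim T (T' : Set X) ≤ n := by
  refine iSup₂_le fun s hs => ?_
  obtain ⟨t, ht1, ht2, hst⟩ := le_codim_extend s hs.1 hs.2
  exact Nat.cast_le.2 (hst.trans (hn t ht1 ht2))

theorem le_codim {T T' : IrreducibleCloseds X} (s : LTSeries (IrreducibleCloseds X)) (h1 : s.head = T)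
    (h2 : s.last = T') : (s.length : ℕ∞) ≤ PtTop.codim T (T' : Set X) :=
  le_iSup₂_of_le s ⟨h1, by rw [h2]⟩ le_rfl

theorem exists_longer_of_not_covBy {α : Type*} [PartialOrder α] (s : LTSeries α) (i : Fin s.length)
    (h : ¬ s (Fin.castSucc i) ⋖ s (Fin.succ i)) :
    ∃ t : LTSeries α, t.head = s.head ∧ t.last = s.last ∧ t.length = s.length + 1 := by
  obtain ⟨a, h1, h2⟩ : ∃ a, s (Fin.castSucc i) < a ∧ a < s (Fin.succ i) := by
    by_contra hn
    exact h ⟨s.strictMono Fin.castSucc_lt_succ, fun a ha hb => hn ⟨a, ha, hb⟩⟩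
  refine ⟨s.insertNth i a h1 h2, ?_, ?_, rfl⟩
  · show (Fin.insertNth (α := fun _ => α) i.succ.castSucc a s.toFun) 0 = s.toFun 0
    conv_lhs => rw [← Fin.succAbove_ne_zero_zero (a := i.succ.castSucc) (by simp [Fin.ext_iff])]
    rw [Fin.insertNth_apply_succAbove]
  · show (Fin.insertNth (α := fun _ => α) i.succ.castSucc a s.toFun) (Fin.last _) = s.toFun (Fin.last _)
    conv_lhs => rw [← Fin.succAbove_ne_last_last (a := i.succ.castSucc) (by simp [Fin.ext_iff]; omega)]
    rw [Fin.insertNth_apply_succAbove]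

theorem isCatenarySpace_iff_oCat : PtTop.IsCatenarySpace X ↔ OCat (IrreducibleCloseds X) := by
  constructor
  · intro H
    refine ⟨fun p q hpq => ?_, fun s t h1 h2 hs ht => ?_⟩
    · obtain ⟨n, hn⟩ := ENat.ne_top_iff_exists.1 (H p q hpq).1
      exact ⟨n, fun s e1 e2 => Nat.cast_le.1 ((le_codim s e1 e2).trans hn.ge)⟩
    · have := (H s.head s.last (LTSeries.head_le_last s)).2
      exact Nat.cast_inj.1 ((this s rfl rfl hs).trans (this t h1.symm h2.symm ht).symm)
  · intro H T T' hTT'
    obtain ⟨n, hn⟩ := H.1 T T' hTT'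
    have hb := codim_le_of_bound hn
    have htop : PtTop.codim T (T' : Set X) ≠ ⊤ := fun e => by simp [e] at hb
    refine ⟨htop, fun s e1 e2 hs => ?_⟩
    refine le_antisymm (le_codim s e1 e2) (codim_le_of_bound fun t f1 f2 => ?_)
    classical
    obtain ⟨k, hk, hmax⟩ : ∃ k, (∃ u : LTSeries (IrreducibleCloseds X),
        u.head = T ∧ u.last = T' ∧ u.length = k) ∧ ∀ v : LTSeries (IrreducibleCloseds X),
        v.head = T → v.last = T' → v.length ≤ k := by
      let K := Nat.findGreatest (fun k => ∃ u : LTSeries (IrreducibleCloseds X),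
        u.head = T ∧ u.last = T' ∧ u.length = k) n
      refine ⟨K, Nat.findGreatest_spec (P := fun k => ∃ u : LTSeries (IrreducibleCloseds X),
        u.head = T ∧ u.last = T' ∧ u.length = k) (hn s e1 e2) ⟨s, e1, e2, rfl⟩, fun v g1 g2 => ?_⟩
      exact Nat.le_findGreatest (hn v g1 g2) ⟨v, g1, g2, rfl⟩
    obtain ⟨u, g1, g2, rfl⟩ := hk
    have hu : ∀ i : Fin u.length, u (Fin.castSucc i) ⋖ u (Fin.succ i) := fun i => by
      by_contra hi
      obtain ⟨w, w1, w2, wl⟩ := exists_longer_of_not_covBy u i hi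
      have := hmax w (w1.trans g1) (w2.trans g2)
      omega
    rw [H.2 s u (e1.trans g1.symm) (e2.trans g2.symm) hs hu]
    exact hmax t f1 f2

end Space

/-- Irreducible closed subsets whose generic point lies in the image of a map of spectra. -/
noncomputable def irredEmbedding {X : Scheme.{u}} {A : CommRingCat.{u}} (j : Spec A ⟶ X)
    (hj : Topology.IsEmbedding j) : (PrimeSpectrum A)ᵒᵈ ↪o IrreducibleCloseds X :=
  OrderEmbedding.ofMapLEIff
    (fun p => ⟨closure {j (OrderDual.ofDual p)}, isIrreducible_singleton.closure, isClosed_closure⟩)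
    fun p q => by
      show closure {j (OrderDual.ofDual p)} ⊆ closure {j (OrderDual.ofDual q)} ↔ _
      rw [← specializes_iff_closure_subset, hj.toIsInducing.specializes_iff,
        ← OrderDual.ofDual_le_ofDual]
      exact (PrimeSpectrum.le_iff_specializes _ _).symm

theorem mem_range_irredEmbedding {X : Scheme.{u}} {A : CommRingCat.{u}} (j : Spec A ⟶ X)
    (hj : Topology.IsEmbedding j) (T : IrreducibleCloseds X) :
    T ∈ Set.range (irredEmbedding j hj) ↔ T.2.genericPoint ∈ Set.range j := by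
  constructor
  · rintro ⟨p, rfl⟩
    refine ⟨OrderDual.ofDual p, (isGenericPoint_closure (x := j (OrderDual.ofDual p))).eq ?_⟩
    have := (irredEmbedding j hj p).2.isGenericPoint_genericPoint_closure
    rwa [closure_eq_iff_isClosed.2 (irredEmbedding j hj p).3] at this
  · rintro ⟨p, hp⟩
    refine ⟨OrderDual.toDual p, IrreducibleCloseds.ext ?_⟩
    show closure {j p} = (T : Set X)
    rw [hp, T.2.genericPoint_closure_eq, closure_eq_iff_isClosed.2 T.3]
    rfl

theorem isUpperSet_range_irredEmbedding {X : Scheme.{u}} {A : CommRingCat.{u}} (j : Spec A ⟶ X)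
    (hj : Topology.IsEmbedding j) (hg : StableUnderGeneralization (Set.range j)) :
    IsUpperSet (Set.range (irredEmbedding j hj)) := by
  intro T T' h hT
  rw [mem_range_irredEmbedding] at hT ⊢
  refine hg ?_ hT
  have h1 := T.2.isGenericPoint_genericPoint_closure
  have h2 := T'.2.isGenericPoint_genericPoint_closure
  rw [closure_eq_iff_isClosed.2 T.3] at h1
  rw [closure_eq_iff_isClosed.2 T'.3] at h2
  exact h2.specializes (h h1.mem)

theorem oCat_irreducibleCloseds_of_cover {X : Scheme.{u}}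
    (H : ∀ x : X, ∃ (A : CommRingCat.{u}) (j : Spec A ⟶ X), Topology.IsEmbedding j ∧
      StableUnderGeneralization (Set.range j) ∧ x ∈ Set.range j ∧ CAlg.IsCatenary A) :
    PtTop.IsCatenarySpace X := by
  rw [isCatenarySpace_iff_oCat]
  refine OCat.of_cover fun T => ?_
  obtain ⟨A, j, hj, hg, hx, hA⟩ := H T.2.genericPoint
  exact ⟨_, inferInstance, irredEmbedding j hj, isUpperSet_range_irredEmbedding j hj hg,
    (mem_range_irredEmbedding j hj T).2 hx, OCat.dual (P := PrimeSpectrum A) hA⟩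

theorem isCatenary_of_isCatenarySpace {X : Scheme.{u}} (H : PtTop.IsCatenarySpace X)
    {A : CommRingCat.{u}} (j : Spec A ⟶ X) (hj : Topology.IsEmbedding j)
    (hg : StableUnderGeneralization (Set.range j)) : CAlg.IsCatenary A := by
  have := OCat.of_upper _ (isUpperSet_range_irredEmbedding j hj hg) (isCatenarySpace_iff_oCat.1 H)
  exact OCat.dual this

end Groth.Agent.Props12
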