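import Groth.Agent.Misc15.StalkLoc
import Groth.Agent.CommAlg6.ClosedPoints

/-! Stalk properties stable under localization can be checked at closed points. -/

universe u

set_option autoImplicit false

open AlgebraicGeometry CategoryTheory

namespace Groth.Agent.Props12

theorem exists_atPrime_ringEquiv_of_specializes {X : Scheme.{u}} {z x : X} (h : z ⤳ x) :
    ∃ (p : Ideal (X.presheaf.stalk x)) (_ : p.IsPrime),
      Nonempty (Localization.AtPrime p ≃+* X.presheaf.stalk z) := by
  let _ := (X.presheaf.stalkSpecializes h).hom.toAlgebra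
  let p := (IsLocalRing.maximalIdeal (X.presheaf.stalk z)).comap (X.presheaf.stalkSpecializes h).hom
  have hp : p.IsPrime := Ideal.IsPrime.comap _
  have e : p.primeCompl =
      (IsUnit.submonoid (X.presheaf.stalk z)).comap (X.presheaf.stalkSpecializes h).hom := by
    ext a
    exact not_not
  have hl := Groth.Agent.Misc15.isLocalization_stalkSpecializes h
  rw [← e] at hl
  exact ⟨p, hp, ⟨(IsLocalization.algEquiv p.primeCompl (Localization.AtPrime p)
    (X.presheaf.stalk z)).toRingEquiv⟩⟩

theorem forall_stalk_iff_closedPoints {X : Scheme.{u}} [IsLocallyNoetherian X]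
    (P : (A : Type u) → [CommRing A] → Prop)
    (hloc : ∀ (A : Type u) [CommRing A] [IsLocalRing A] (p : Ideal A) [p.IsPrime],
      P A → P (Localization.AtPrime p))
    (hequiv : ∀ (A B : Type u) [CommRing A] [CommRing B] (_ : A ≃+* B), P A → P B) :
    (∀ x : X, P (X.presheaf.stalk x)) ↔
      ∀ x : X, IsClosed ({x} : Set X) → P (X.presheaf.stalk x) := by
  refine ⟨fun H x _ => H x, fun H x => ?_⟩
  obtain ⟨y, hy, hyc⟩ := CommAlg6.exists_isClosed_singleton_mem (isClosed_closure (s := {x}))
    ⟨x, subset_closure rfl⟩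
  obtain ⟨p, hp, ⟨e⟩⟩ := exists_atPrime_ringEquiv_of_specializes (specializes_iff_mem_closure.2 hy)
  exact hequiv _ _ e (hloc _ p (H y hyc))

end Groth.Agent.Props12
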