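import Groth.Agent.Props12.Catenary
import Mathlib.RingTheory.Ideal.MinimalPrime.Noetherian

/-! Catenary posets, saturated chains and dimension functions. -/

universe u

set_option autoImplicit false

open AlgebraicGeometry CategoryTheory TopologicalSpace

namespace Groth.Agent.Props12

variable {P : Type*} [PartialOrder P]

/-- A saturated chain of length `n` from `p` to `q`. -/
inductive Sat : ℕ → P → P → Prop
  | refl (p : P) : Sat 0 p p
  | step {n : ℕ} {p q r : P} : p ⋖ q → Sat n q r → Sat (n + 1) p r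

theorem Sat.trans {m n : ℕ} {p q r : P} (h : Sat m p q) (h' : Sat n q r) : Sat (m + n) p r := by
  induction h with
  | refl p => simpa using h'
  | step hpq _ ih => rw [Nat.add_right_comm]; exact .step hpq (ih h')

theorem Sat.le {n : ℕ} {p q : P} (h : Sat n p q) : p ≤ q := by
  induction h with
  | refl p => rfl
  | step hpq _ ih => exact hpq.le.trans ih

theorem Sat.pos {n : ℕ} {p q : P} (h : Sat n p q) (hne : p ≠ q) : 0 < n := by
  cases h with
  | refl p => exact absurd rfl hne
  | step => omega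

theorem Sat.exists_series {n : ℕ} {p q : P} (h : Sat n p q) :
    ∃ s : LTSeries P, s.head = p ∧ s.last = q ∧ s.length = n ∧
      ∀ i : Fin s.length, s (Fin.castSucc i) ⋖ s (Fin.succ i) := by
  induction h with
  | refl p => exact ⟨RelSeries.singleton _ p, rfl, rfl, rfl, fun i => i.elim0⟩
  | @step n p q r hpq _ ih =>
    obtain ⟨s, h1, h2, h3, h4⟩ := ih
    refine ⟨s.cons p (show p < s.head by rw [h1]; exact hpq.lt), by simp, by simp [h2], by simp [h3],
      fun i => ?_⟩
    have hsucc : ∀ j : Fin (s.length + 1), (s.cons p (show p < s.head by rw [h1]; exact hpq.lt))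
        (.cast (by simp) j.succ) = s j := fun j => RelSeries.cons_cast_succ _ _ _ j
    obtain ⟨i, hi⟩ := i
    cases i with
    | zero =>
      have := hsucc 0
      show (RelSeries.head _) ⋖ _
      rw [RelSeries.head_cons]
      exact (h1.symm.trans this.symm) ▸ hpq
    | succ i =>
      have hi' : i < s.length := by simp at hi; omega
      have e1 := hsucc ⟨i, by omega⟩
      have e2 := hsucc ⟨i + 1, by omega⟩
      have h5 := h4 ⟨i, hi'⟩
      exact cast (congrArg₂ (· ⋖ ·) e1.symm e2.symm) h5

theorem exists_sat (n : ℕ) : ∀ p q : P, p ≤ q →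
    (∀ s : LTSeries P, s.head = p → s.last = q → s.length ≤ n) → ∃ k, Sat k p q := by
  induction n with
  | zero =>
    intro p q hpq hb
    rcases eq_or_lt_of_le hpq with rfl | hlt
    · exact ⟨0, .refl p⟩
    · have := hb ((RelSeries.singleton _ q).cons p hlt) (by simp) (by simp)
      simp at this
  | succ n ih =>
    intro p q hpq hb
    rcases eq_or_lt_of_le hpq with rfl | hlt
    · exact ⟨0, .refl p⟩
    by_cases hc : p ⋖ q
    · exact ⟨1, .step hc (.refl q)⟩
    obtain ⟨a, hpa, haq⟩ : ∃ a, p < a ∧ a < q := by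
      by_contra hn
      exact hc ⟨hlt, fun a ha hb => hn ⟨a, ha, hb⟩⟩
    obtain ⟨k, hk⟩ := ih p a hpa.le fun s e1 e2 => by
      have := hb (s.snoc q (show s.last < q by rw [e2]; exact haq)) (by simpa using e1) (by simp)
      simpa using this
    obtain ⟨l, hl⟩ := ih a q haq.le fun s e1 e2 => by
      have := hb (s.cons p (show p < s.head by rw [e1]; exact hpa)) (by simp) (by simpa using e2)
      simpa using this
    exact ⟨k + l, hk.trans hl⟩

theorem OCat.exists_sat (h : OCat P) {p q : P} (hpq : p ≤ q) : ∃ k, Sat k p q := by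
  obtain ⟨n, hn⟩ := h.1 p q hpq
  exact Props12.exists_sat n p q hpq hn

theorem OCat.sat_unique (h : OCat P) {p q : P} {m n : ℕ} (hm : Sat m p q) (hn : Sat n p q) : m = n := by
  obtain ⟨s, s1, s2, rfl, s4⟩ := hm.exists_series
  obtain ⟨t, t1, t2, rfl, t4⟩ := hn.exists_series
  exact h.2 s t (s1.trans t1.symm) (s2.trans t2.symm) s4 t4

/-- The length of the saturated chains from `p` to `q`. -/
noncomputable def chainLen (h : OCat P) (p q : P) : ℤ :=
  open scoped Classical in if hpq : p ≤ q then ((h.exists_sat hpq).choose : ℤ) else 0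

theorem chainLen_eq (h : OCat P) {p q : P} {n : ℕ} (hn : Sat n p q) : chainLen h p q = n := by
  rw [chainLen, dif_pos hn.le, h.sat_unique (h.exists_sat hn.le).choose_spec hn]

theorem chainLen_add (h : OCat P) {p q r : P} (hpq : p ≤ q) (hqr : q ≤ r) :
    chainLen h p r = chainLen h p q + chainLen h q r := by
  obtain ⟨m, hm⟩ := h.exists_sat hpq
  obtain ⟨n, hn⟩ := h.exists_sat hqr
  rw [chainLen_eq h hm, chainLen_eq h hn, chainLen_eq h (hm.trans hn), Nat.cast_add]

theorem chainLen_pos (h : OCat P) {p q : P} (hpq : p < q) : 0 < chainLen h p q := by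
  obtain ⟨m, hm⟩ := h.exists_sat hpq.le
  rw [chainLen_eq h hm]
  exact Nat.cast_pos.2 (hm.pos hpq.ne)

theorem chainLen_covBy (h : OCat P) {p q : P} (hpq : p ⋖ q) : chainLen h p q = 1 := by
  rw [chainLen_eq h (.step hpq (.refl q))]; rfl

theorem oCat_of_dimFun (φ : P → ℤ) (hmono : ∀ p q : P, p < q → φ p < φ q)
    (hcov : ∀ p q : P, p ⋖ q → φ q = φ p + 1) : OCat P := by
  have hle : ∀ s : LTSeries P, φ s.head + s.length ≤ φ s.last := fun s => by
    have : ∀ i : Fin (s.length + 1), φ s.head + (i : ℕ) ≤ φ (s i) := by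
      intro i
      induction i using Fin.induction with
      | zero => simp [RelSeries.head]
      | succ i ih =>
        have := hmono _ _ (s.step i)
        simp only [Fin.val_succ, Fin.val_castSucc, Nat.cast_add, Nat.cast_one] at *
        omega
    simpa [RelSeries.last] using this (Fin.last _)
  have heq : ∀ s : LTSeries P, (∀ i : Fin s.length, s (Fin.castSucc i) ⋖ s (Fin.succ i)) →
      φ s.head + s.length = φ s.last := fun s hs => by
    have : ∀ i : Fin (s.length + 1), φ s.head + (i : ℕ) = φ (s i) := by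
      intro i
      induction i using Fin.induction with
      | zero => simp [RelSeries.head]
      | succ i ih =>
        have := hcov _ _ (hs i)
        simp only [Fin.val_succ, Fin.val_castSucc, Nat.cast_add, Nat.cast_one] at *
        omega
    simpa [RelSeries.last] using this (Fin.last _)
  refine ⟨fun p q _ => ⟨(φ q - φ p).toNat, fun s e1 e2 => ?_⟩, fun s t h1 h2 hs ht => ?_⟩
  · have := hle s
    rw [e1, e2] at this
    omega
  · have e1 := heq s hs
    have e2 := heq t ht
    rw [← h1, ← h2] at e2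
    omega

/-- On a Noetherian catenary spectrum, a dimension function exists near every point. -/
theorem exists_dimFun_basicOpen {A : Type u} [CommRing A] [IsNoetherianRing A]
    (h : CAlg.IsCatenary A) (s : PrimeSpectrum A) :
    ∃ (f : A) (φ : PrimeSpectrum A → ℤ), f ∉ s.asIdeal ∧
      ∀ x y : PrimeSpectrum A, f ∉ y.asIdeal →
        (x < y → φ y < φ x) ∧ (x ⋖ y → φ x = φ y + 1) := by
  have hc : OCat (PrimeSpectrum A) := h
  classical
  have hfin1 := minimalPrimes.finite_of_isNoetherianRing (R := A)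
  let B : Set (Ideal A) := (minimalPrimes A ∪
    ⋃ m₁ ∈ minimalPrimes A, ⋃ m₂ ∈ minimalPrimes A, (m₁ ⊔ m₂).minimalPrimes) ∩ {q | ¬ q ≤ s.asIdeal}
  have hBfin : B.Finite := (hfin1.union (hfin1.biUnion fun m₁ _ => hfin1.biUnion fun m₂ _ =>
    Ideal.finite_minimalPrimes_of_isNoetherianRing A _)).inter_of_left _
  have hex : ∀ q ∈ B, ∃ a ∈ q, a ∉ s.asIdeal := fun q hq => SetLike.not_le_iff_exists.1 hq.2
  choose a ha has using hex
  let f : A := ∏ q : hBfin.toFinset, a q.1 (hBfin.mem_toFinset.1 q.2)
  have hf : f ∉ s.asIdeal := fun hf => by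
    obtain ⟨q, -, hq⟩ := (Ideal.IsPrime.prod_mem_iff).1 hf
    exact has _ _ hq
  have hgood : ∀ q ∈ B, f ∈ q := fun q hq => Ideal.mem_of_dvd q
    (Finset.dvd_prod_of_mem _ (Finset.mem_univ (⟨q, hBfin.mem_toFinset.2 hq⟩ : hBfin.toFinset))) (ha q hq)
  have hm : ∀ x : PrimeSpectrum A, ∃ m : PrimeSpectrum A, m.asIdeal ∈ minimalPrimes A ∧ m ≤ x := fun x => by
    obtain ⟨m, hm, hmx⟩ := Ideal.exists_minimalPrimes_le (bot_le : ⊥ ≤ x.asIdeal)
    exact ⟨⟨m, hm.1.1⟩, hm, hmx⟩
  choose m hmmin hmle using hm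
  let φ : PrimeSpectrum A → ℤ := fun x => chainLen hc (m x) s - chainLen hc (m x) x
  have key : ∀ (y : PrimeSpectrum A) (n : PrimeSpectrum A), f ∉ y.asIdeal → n.asIdeal ∈ minimalPrimes A →
      n ≤ y → φ y = chainLen hc n s - chainLen hc n y := by
    intro y n hy hn hny
    have hsup : (m y).asIdeal ⊔ n.asIdeal ≤ y.asIdeal := sup_le (hmle y) hny
    obtain ⟨w, hw, hwy⟩ := Ideal.exists_minimalPrimes_le hsup
    let W : PrimeSpectrum A := ⟨w, hw.1.1⟩
    have hws : W ≤ s := by
      by_contra hcon
      exact hy (hwy (hgood w ⟨Or.inr (Set.mem_biUnion (hmmin y) (Set.mem_biUnion hn hw)), hcon⟩))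
    have hns : m y ≤ W := le_sup_left.trans hw.1.2
    have hnW : n ≤ W := le_sup_right.trans hw.1.2
    show chainLen hc (m y) s - chainLen hc (m y) y = _
    rw [chainLen_add hc hns hws, chainLen_add hc hns (show W ≤ y from hwy),
      chainLen_add hc hnW hws, chainLen_add hc hnW (show W ≤ y from hwy)]
    ring
  refine ⟨f, φ, hf, fun x y hy => ⟨fun hxy => ?_, fun hxy => ?_⟩⟩
  · rw [key y (m x) hy (hmmin x) ((hmle x).trans hxy.le)]
    show _ < chainLen hc (m x) s - chainLen hc (m x) x
    rw [chainLen_add hc (hmle x) hxy.le]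
    linarith [chainLen_pos hc hxy]
  · rw [key y (m x) hy (hmmin x) ((hmle x).trans hxy.le)]
    show chainLen hc (m x) s - chainLen hc (m x) x = _
    rw [chainLen_add hc (hmle x) hxy.le, chainLen_covBy hc hxy]
    ring

end Groth.Agent.Props12
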