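import Groth.Agent.Props12.FPColimit
import Groth.Agent.H8Lim.ModEq
import Groth.Agent.Desc19b.ModStFibGrpd

/-!
# A finite type module is a finitely presented quotient, isomorphically on a given FP locus
-/

set_option autoImplicit false
set_option backward.isDefEq.respectTransparency false

universe u

open CategoryTheory CategoryTheory.Limits AlgebraicGeometry Opposite TopologicalSpace
open Groth.Agent.Coherent

namespace Groth.Agent.Props12.FPColimit

variable {X : Scheme.{u}}

theorem isFT_restrict (U : X.Opens) (M : X.Modules) (hM : CohB1.IsFP M) :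
    CohB1.IsFT (M.restrict U.ι) := by
  have h1 := Desc19b.ModStFib.isFP_pullback U.ι M hM
  have : SheafOfModules.IsFinitePresentation.{u} (R := X.ringCatSheaf) M := hM
  have : Coh.IsQCoh M :=
    inferInstanceAs (SheafOfModules.IsQuasicoherent.{u} (R := X.ringCatSheaf) M)
  have := EGA43.InjFibre.isQCoh_pullback U.ι M
  have h2 : CohB1.IsFT ((Scheme.Modules.pullback U.ι).obj M) :=
    have : SheafOfModules.IsFinitePresentation.{u} (R := U.toScheme.ringCatSheaf)
      ((Scheme.Modules.pullback U.ι).obj M) := h1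
    inferInstanceAs (SheafOfModules.IsFiniteType (R := U.toScheme.ringCatSheaf) _)
  exact H8Lim.isFT_of_epi ((Scheme.Modules.restrictFunctorIsoPullback U.ι).app M).inv h2

/-- The surjection which is an isomorphism over `U`. -/
theorem exists_fp_iso_on [CompactSpace X] [QuasiSeparatedSpace X] (F : X.Modules) [Coh.IsQCoh F]
    (hF : CohB1.IsFT F) (U : X.Opens) (hU : IsCompact (U : Set X))
    (hFU : CohB1.IsFP (F.restrict U.ι)) :
    ∃ (G : X.Modules) (φ : G ⟶ F), CohB1.IsFP G ∧ Epi φ ∧
      IsIso ((Scheme.Modules.restrictFunctor U.ι).map φ) := by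
  obtain ⟨P, p, hPq, hP, hp⟩ := exists_epi F hF
  let R := Scheme.Modules.restrictFunctor U.ι
  have : PreservesColimitsOfSize.{0, 0} R := inferInstance
  have hK : Coh.IsQCoh (kernel p) := isQCoh_kernel p
  have : Epi (R.map p) := inferInstance
  have hkerFT : CohB1.IsFT (kernel (R.map p)) :=
    H8Lim.isFT_kernel_of_fp (R.map p) (isFT_restrict U P hP) hFU
  have : Coh.IsQCoh (kernel (R.map p)) := isQCoh_kernel _
  have hG : CohB1.IsFT ((kernel p).restrict U.ι) :=
    H8Lim.isFT_of_epi (PreservesKernel.iso R p).inv hkerFT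
  obtain ⟨K', i', e, -, hK'q, hK', he⟩ :=
    exists_finiteType_extension_qcqs (F := kernel p) U (𝟙 ((kernel p).restrict U.ι)) hG hU
  have hiso : IsIso (R.map i') := by
    rw [← he, Category.comp_id]; infer_instance
  have hzero : (i' ≫ kernel.ι p) ≫ p = 0 := by rw [Category.assoc, kernel.condition, comp_zero]
  let φ := cokernel.desc (i' ≫ kernel.ι p) p hzero
  have hπ : cokernel.π (i' ≫ kernel.ι p) ≫ φ = p := cokernel.π_desc _ _ _
  have : Epi (cokernel.π (i' ≫ kernel.ι p) ≫ φ) := by rw [hπ]; exact hp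
  refine ⟨_, φ, H8Lim.isFP_cokernel _ hK' hP, epi_of_epi (cokernel.π (i' ≫ kernel.ι p)) φ, ?_⟩
  have h1 : R.map (kernel.ι p) ≫ R.map (cokernel.π (i' ≫ kernel.ι p)) = 0 := by
    rw [← cancel_epi (R.map i'), ← R.map_comp, ← R.map_comp, ← Category.assoc, cokernel.condition,
      R.map_zero, comp_zero]
  have hcol := CokernelCofork.mapIsColimit _
    (Abelian.epiIsCokernelOfKernel _ (limit.isLimit (parallelPair p 0))) R
  obtain ⟨ψ, hψ⟩ := CokernelCofork.IsColimit.desc' hcol (R.map (cokernel.π (i' ≫ kernel.ι p))) h1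
  have hψ' : R.map p ≫ ψ = R.map (cokernel.π (i' ≫ kernel.ι p)) := hψ
  refine ⟨ψ, ?_, ?_⟩
  · rw [← cancel_epi (R.map (cokernel.π (i' ≫ kernel.ι p))), ← R.map_comp_assoc, hπ, hψ',
      Category.comp_id]
  · rw [← cancel_epi (R.map p), ← Category.assoc, hψ', ← R.map_comp, hπ, Category.comp_id]

end Groth.Agent.Props12.FPColimit
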