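import Mathlib.RingTheory.Spectrum.Prime.Topology
import Mathlib.RingTheory.Ideal.KrullsHeightTheorem
import Mathlib.RingTheory.Jacobson.Ideal
import Mathlib.Topology.JacobsonSpace
import Mathlib.RingTheory.Ideal.Quotient.Operations

/-!
The complement of a closed set inside the Jacobson radical locus of a noetherian ring is Jacobson.
-/

universe u

namespace Groth.Agent.Props12

/-- If every nonzero prime of a noetherian domain contains `h ≠ 0` then every nonzero prime is maximal. -/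
lemma isMaximal_of_gDomain {D : Type u} [CommRing D] [IsDomain D] [IsNoetherianRing D] {h : D}
    (hh : h ≠ 0) (hall : ∀ r : Ideal D, r.IsPrime → r ≠ ⊥ → h ∈ r) (r : Ideal D) [r.IsPrime]
    (hr : r ≠ ⊥) : r.IsMaximal := by
  classical
  obtain ⟨s, hs, hrs⟩ := Ideal.exists_le_maximal r (Ideal.IsPrime.ne_top ‹_›)
  by_contra hmax
  have hne : r ≠ s := fun e ↦ hmax (e ▸ hs)
  have hlt : r < s := lt_of_le_of_ne hrs hne
  have hpos : ∀ p : Ideal D, p.IsPrime → p ≠ ⊥ → 1 ≤ p.height := by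
    intro p hp hp0
    have : (⊥ : Ideal D).IsPrime := Ideal.isPrime_bot
    have := Ideal.height_strict_mono_of_isPrime (I := (⊥ : Ideal D)) (J := p) (bot_lt_iff_ne_bot.mpr hp0)
    exact Order.one_le_iff_pos.mpr (lt_of_le_of_lt bot_le this)
  let S := (Ideal.span {h}).minimalPrimes
  have hS : S.Finite := (Ideal.span {h}).finite_minimalPrimes_of_isNoetherianRing
  have hnot : ∀ m ∈ S, ¬ s ≤ m := by
    intro m hm hsm
    have := hm.isPrime
    have h1 : m.height ≤ 1 := Ideal.height_le_one_of_isPrincipal_of_mem_minimalPrimes _ m hm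
    have h2 := Ideal.height_strict_mono_of_isPrime (hlt.trans_le hsm)
    exact absurd ((hpos r ‹_› hr).trans_lt (h2.trans_le h1)) (lt_irrefl _)
  have hcov : ¬ ((s : Set D) ⊆ ⋃ m ∈ (hS.toFinset : Set (Ideal D)), (id m : Ideal D)) := by
    intro hsub
    obtain ⟨m, hm, hsm⟩ := (Ideal.subset_union_prime (⊥ : Ideal D) (⊥ : Ideal D)
      (fun m hm _ _ ↦ (hS.mem_toFinset.mp hm).isPrime)).mp hsub
    exact hnot m (hS.mem_toFinset.mp hm) hsm
  obtain ⟨a, has, ha⟩ := Set.not_subset.mp hcov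
  have hle : Ideal.span {a} ≤ s := (Ideal.span_singleton_le_iff_mem s).mpr has
  obtain ⟨r', hr', hr's⟩ := Ideal.exists_minimalPrimes_le hle
  have := hr'.isPrime
  have h0 : a ≠ 0 := by
    rintro rfl
    obtain ⟨m, hm, -⟩ := Ideal.exists_minimalPrimes_le (show Ideal.span {h} ≤ s from
      (Ideal.span_singleton_le_iff_mem s).mpr (hrs (hall r ‹_› hr)))
    exact ha (Set.mem_biUnion (hS.mem_toFinset.mpr hm) (Ideal.zero_mem _))
  have hr'0 : r' ≠ ⊥ := by
    rintro rfl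
    exact h0 (by simpa using hr'.1.2 (Ideal.mem_span_singleton_self a))
  obtain ⟨m, hm, hmr'⟩ := Ideal.exists_minimalPrimes_le (show Ideal.span {h} ≤ r' from
    (Ideal.span_singleton_le_iff_mem r').mpr (hall r' ‹_› hr'0))
  have := hm.isPrime
  have hm0 : m ≠ ⊥ := by
    rintro rfl
    exact hh (by simpa using hm.1.2 (Ideal.mem_span_singleton_self h))
  have heq : m = r' := by
    by_contra hne'
    have h2 := Ideal.height_strict_mono_of_isPrime (lt_of_le_of_ne hmr' hne')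
    have h1 := Ideal.height_le_one_of_isPrincipal_of_mem_minimalPrimes _ r' hr'
    exact absurd ((hpos m ‹_› hm0).trans_lt (h2.trans_le h1)) (lt_irrefl _)
  exact ha (Set.mem_biUnion (hS.mem_toFinset.mpr hm)
    (heq ▸ hr'.1.2 (Ideal.mem_span_singleton_self a)))

theorem jacobsonSpace_compl_zeroLocus {R : Type u} [CommRing R] [IsNoetherianRing R]
    (I : Ideal R) (hI : I ≤ (⊥ : Ideal R).jacobson) :
    JacobsonSpace ↥((PrimeSpectrum.zeroLocus (I : Set R))ᶜ) := by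
  rw [jacobsonSpace_iff_locallyClosed]
  rintro Z ⟨⟨p, hp⟩, hpZ⟩ hZ
  obtain ⟨O, C, hO, hC, rfl⟩ := hZ
  obtain ⟨O', hO', rfl⟩ := isOpen_induced_iff.mp hO
  obtain ⟨C', hC', rfl⟩ := isClosed_induced_iff.mp hC
  obtain ⟨_, ⟨f, rfl⟩, hpf, hfO⟩ :=
    PrimeSpectrum.isTopologicalBasis_basic_opens.exists_subset_of_mem_open hpZ.1 hO'
  obtain ⟨g, hgI, hgp⟩ : ∃ g ∈ I, g ∉ p.asIdeal := Set.not_subset.mp hp
  have hh : f * g ∉ p.asIdeal := fun h ↦ (p.2.mem_or_mem h).elim hpf hgp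
  obtain ⟨q, ⟨hqp, hle, hfq⟩, hqmin⟩ := (wellFounded_gt (α := Ideal R)).has_min
    {q : Ideal R | q.IsPrime ∧ p.asIdeal ≤ q ∧ f * g ∉ q} ⟨p.asIdeal, p.2, le_rfl, hh⟩
  have hqmax : ∀ {s : Ideal R}, (s.IsPrime ∧ p.asIdeal ≤ s ∧ f * g ∉ s) → q ≤ s → s ≤ q :=
    fun {s} hs hqs ↦ by
      by_contra hsq
      exact hqmin s hs (lt_of_le_not_ge hqs hsq)
  have hqU : (⟨q, hqp⟩ : PrimeSpectrum R) ∈ (PrimeSpectrum.zeroLocus (I : Set R))ᶜ := fun h ↦
    hfq (q.mul_mem_left f (h hgI))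
  refine ⟨⟨⟨q, hqp⟩, hqU⟩, ⟨hfO fun hm ↦ hfq (q.mul_mem_right g hm),
    (((PrimeSpectrum.le_iff_specializes p ⟨q, hqp⟩).mp hle).mem_closed hC' hpZ.2)⟩, ?_⟩
  rw [mem_closedPoints_iff, isClosed_induced_iff]
  refine ⟨closure {⟨q, hqp⟩}, isClosed_closure, ?_⟩
  ext ⟨r, hr⟩
  simp only [Set.mem_preimage, Set.mem_singleton_iff, Subtype.ext_iff]
  refine ⟨fun hrq ↦ ?_, fun h ↦ h ▸ subset_closure rfl⟩
  have hqr : q ≤ r.asIdeal :=
    (PrimeSpectrum.le_iff_specializes ⟨q, hqp⟩ r).mpr (specializes_iff_mem_closure.mpr hrq)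
  by_contra hne
  have hlt : q < r.asIdeal := lt_of_le_of_ne hqr fun h ↦ hne (PrimeSpectrum.ext h.symm)
  -- `r` is maximal
  have hrmax : r.asIdeal.IsMaximal := by
    have : ∀ s : Ideal (R ⧸ q), s.IsPrime → s ≠ ⊥ → Ideal.Quotient.mk q (f * g) ∈ s := by
      intro s hs hs0
      by_contra hmem
      apply hs0
      have hs' : s.comap (Ideal.Quotient.mk q) ≤ q :=
        hqmax ⟨hs.comap _, hle.trans (fun x hx ↦ by
          simp [Ideal.mem_comap, Ideal.Quotient.eq_zero_iff_mem.mpr hx]), hmem⟩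
          (fun x hx ↦ by simp [Ideal.mem_comap, Ideal.Quotient.eq_zero_iff_mem.mpr hx])
      rw [eq_bot_iff]
      intro x hx
      obtain ⟨y, rfl⟩ := Ideal.Quotient.mk_surjective x
      exact Ideal.Quotient.eq_zero_iff_mem.mpr (hs' hx)
    have hker : RingHom.ker (Ideal.Quotient.mk q) ≤ r.asIdeal := by rw [Ideal.mk_ker]; exact hqr
    have : (r.asIdeal.map (Ideal.Quotient.mk q)).IsPrime :=
      Ideal.map_isPrime_of_surjective Ideal.Quotient.mk_surjective hker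
    have hne0 : r.asIdeal.map (Ideal.Quotient.mk q) ≠ ⊥ := by
      intro h0
      exact hlt.not_ge fun x hx ↦ Ideal.Quotient.eq_zero_iff_mem.mp
        ((Ideal.mem_bot).mp (h0 ▸ Ideal.mem_map_of_mem _ hx))
    have hmax := isMaximal_of_gDomain
      (fun h0 ↦ hfq (Ideal.Quotient.eq_zero_iff_mem.mp h0)) ‹_› _ hne0
    have := Ideal.comap_isMaximal_of_surjective (Ideal.Quotient.mk q) Ideal.Quotient.mk_surjective
      (K := r.asIdeal.map (Ideal.Quotient.mk q))
    rwa [Ideal.comap_map_of_surjective' _ Ideal.Quotient.mk_surjective, sup_eq_left.mpr hker] at this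
  exact hr fun x hx ↦ (hI.trans (sInf_le ⟨bot_le, hrmax⟩) : I ≤ r.asIdeal) hx

end Groth.Agent.Props12
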