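import Groth.Agent.Props12.FPSurjIso
import Groth.Prelude.Def_Coh

/-!
# Extending quasi-coherent modules with a map from a retrocompact open
-/

set_option autoImplicit false
set_option backward.isDefEq.respectTransparency false

universe u

open CategoryTheory CategoryTheory.Limits AlgebraicGeometry Opposite TopologicalSpace
open Groth.Agent.Coherent

namespace Groth.Agent.Props12

variable {X : Scheme.{u}}

theorem exists_qcoh_extension (U : X.Opens) [QuasiCompact U.ι] (F : X.Modules) [Coh.IsQCoh F]
    (G : (U : Scheme.{u}).Modules) [Coh.IsQCoh G] (φ : G ⟶ F.restrict U.ι) :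
    ∃ (H : X.Modules) (ψ : H ⟶ F) (e : H.restrict U.ι ≅ G), Coh.IsQCoh H ∧
      e.hom ≫ φ = (Scheme.Modules.restrictFunctor U.ι).map ψ := by
  let R := Scheme.Modules.restrictFunctor U.ι
  let J := Scheme.Modules.pushforward U.ι
  let adj := Scheme.Modules.restrictAdjunction U.ι
  let a : J.obj G ⟶ J.obj (R.obj F) := J.map φ
  let b : F ⟶ J.obj (R.obj F) := adj.unit.app F
  have : Coh.IsQCoh (R.obj F) := inferInstanceAs (Coh.IsQCoh (F.restrict U.ι))
  have : Coh.IsQCoh (J.obj G) := isQCoh_push U.ι G
  have : Coh.IsQCoh (J.obj (R.obj F)) := isQCoh_push U.ι (R.obj F)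
  have : Coh.IsQCoh (J.obj G ⊞ F) := isQCoh_biprod _ _
  have : Coh.IsQCoh (kernel (biprod.desc a (-b))) := isQCoh_kernel _
  have hH : Coh.IsQCoh (pullback a b) := @isQCoh_of_iso _ _ _
    ((limit.isLimit (parallelPair (biprod.desc a (-b)) 0)).conePointUniqueUpToIso
      (Abelian.PullbackToBiproductIsKernel.isLimitPullbackToBiproduct a b))
    ‹Coh.IsQCoh (kernel (biprod.desc a (-b)))›
  have hb : IsIso (R.map b) := by
    have : IsIso (R.map (adj.unit.app F) ≫ adj.counit.app (R.obj F)) := by
      rw [adj.left_triangle_components F]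
      exact IsIso.id _
    exact IsIso.of_isIso_comp_right (R.map (adj.unit.app F)) (adj.counit.app (R.obj F))
  have hpb := (IsPullback.of_hasPullback a b).map R
  have : IsIso (R.map (pullback.fst a b)) := hpb.isIso_fst_of_isIso
  let e : (pullback a b).restrict U.ι ≅ G :=
    asIso (R.map (pullback.fst a b)) ≪≫ asIso (adj.counit.app G)
  refine ⟨pullback a b, pullback.snd a b, e, hH, ?_⟩
  show (R.map (pullback.fst a b) ≫ adj.counit.app G) ≫ φ = R.map (pullback.snd a b)
  have nat : R.map a ≫ adj.counit.app (R.obj F) = adj.counit.app G ≫ φ := adj.counit.naturality φ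
  rw [Category.assoc, ← nat, ← R.map_comp_assoc, pullback.condition, R.map_comp, Category.assoc,
    adj.left_triangle_components F]
  exact Category.comp_id _

end Groth.Agent.Props12
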