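import Mathlib.AlgebraicGeometry.Morphisms.ClosedImmersion
import Mathlib.AlgebraicGeometry.Morphisms.Separated

/-! Separatedness from an affine cover with generating intersections. -/

universe u

set_option autoImplicit false
set_option backward.isDefEq.respectTransparency false

open CategoryTheory CategoryTheory.Limits AlgebraicGeometry TopologicalSpace

namespace Groth.Agent.Props12

theorem isSeparated_of_affine_cover {X : Scheme.{u}} {ι : Type u} (W : ι → X.Opens)
    (hW : ∀ i, IsAffineOpen (W i)) (hcov : ⨆ i, W i = ⊤) (hint : ∀ i j, IsAffineOpen (W i ⊓ W j))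
    (hgen : ∀ i j (z : Γ(X, W i ⊓ W j)), z ∈ Subring.closure
      (Set.range (X.presheaf.map (homOfLE (inf_le_left : W i ⊓ W j ≤ W i)).op).hom ∪
        Set.range (X.presheaf.map (homOfLE (inf_le_right : W i ⊓ W j ≤ W j)).op).hom)) :
    X.IsSeparated := by
  refine ⟨⟨?_⟩⟩
  let t := terminal.from X
  let P : ι × ι → (pullback t t).Opens := fun k =>
    pullback.fst t t ⁻¹ᵁ W k.1 ⊓ pullback.snd t t ⁻¹ᵁ W k.2
  have hP : ∀ k, IsAffineOpen (P k) := fun k => by
    have : IsAffine (W k.1).toScheme := hW k.1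
    have : IsAffine (W k.2).toScheme := hW k.2
    let m := pullback.map ((W k.1).ι ≫ t) ((W k.2).ι ≫ t) t t (W k.1).ι (W k.2).ι (𝟙 _) (by simp) (by simp)
    have h : m.opensRange = P k := Opens.ext (by
      show Set.range m = _
      rw [Scheme.Pullback.range_map, Scheme.Opens.range_ι, Scheme.Opens.range_ι]
      rfl)
    rw [← h]
    exact isAffineOpen_opensRange m
  have hcovP : ⨆ k, P k = ⊤ := by
    refine eq_top_iff.2 fun z _ => ?_
    obtain ⟨i, hi⟩ := Opens.mem_iSup.1 (hcov.ge (Opens.mem_top (pullback.fst t t z)))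
    obtain ⟨j, hj⟩ := Opens.mem_iSup.1 (hcov.ge (Opens.mem_top (pullback.snd t t z)))
    exact Opens.mem_iSup.2 ⟨(i, j), hi, hj⟩
  rw [HasAffineProperty.iff_of_iSup_eq_top (P := @IsClosedImmersion) (fun k => ⟨P k, hP k⟩) hcovP]
  rintro ⟨i, j⟩
  let d := pullback.diagonal t
  have hpre : d ⁻¹ᵁ P (i, j) = W i ⊓ W j := by
    show d ⁻¹ᵁ (pullback.fst t t ⁻¹ᵁ W i ⊓ pullback.snd t t ⁻¹ᵁ W j) = _
    rw [Scheme.Hom.preimage_inf, ← Scheme.Hom.comp_preimage, ← Scheme.Hom.comp_preimage,
      pullback.diagonal_fst, pullback.diagonal_snd]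
    rfl
  refine ⟨show IsAffineOpen (d ⁻¹ᵁ P (i, j)) from hpre ▸ hint i j, ?_⟩
  have hs : Function.Surjective (d.app (P (i, j))).hom := by
    intro z
    let e : (d.app (P (i, j))).hom.range.map
        (X.presheaf.map (homOfLE hpre.ge).op).hom = ⊤ := by
      rw [eq_top_iff]
      intro y _
      refine (Subring.closure_le).2 ?_ (hgen i j y)
      rintro _ (⟨a, rfl⟩ | ⟨a, rfl⟩)
      · refine ⟨_, ⟨(pullback.fst t t).appLE (W i) (P (i, j)) inf_le_left a, rfl⟩, ?_⟩
        show ((pullback.fst t t).appLE (W i) (P (i, j)) inf_le_left ≫ d.app (P (i, j)) ≫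
          X.presheaf.map (homOfLE hpre.ge).op) a = _
        congr 2
        rw [d.app_eq_appLE, Scheme.Hom.appLE_map, Scheme.Hom.appLE_comp_appLE]
        simp only [d, pullback.diagonal_fst]
        simp [Scheme.Hom.appLE]
      · refine ⟨_, ⟨(pullback.snd t t).appLE (W j) (P (i, j)) inf_le_right a, rfl⟩, ?_⟩
        show ((pullback.snd t t).appLE (W j) (P (i, j)) inf_le_right ≫ d.app (P (i, j)) ≫
          X.presheaf.map (homOfLE hpre.ge).op) a = _
        congr 2
        rw [d.app_eq_appLE, Scheme.Hom.appLE_map, Scheme.Hom.appLE_comp_appLE]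
        simp only [d, pullback.diagonal_snd]
        simp [Scheme.Hom.appLE]
    obtain ⟨_, ⟨w, rfl⟩, hw⟩ := e.ge (Subring.mem_top (X.presheaf.map (homOfLE hpre.ge).op z))
    refine ⟨w, ?_⟩
    have : IsIso (X.presheaf.map (homOfLE hpre.ge).op) := by
      rw [show homOfLE hpre.ge = eqToHom hpre.symm from Subsingleton.elim _ _]
      infer_instance
    exact (ConcreteCategory.bijective_of_isIso (X.presheaf.map (homOfLE hpre.ge).op)).1 hw
  show Function.Surjective (d ∣_ P (i, j)).appTop
  rw [morphismRestrict_appTop]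
  have key : ∀ (Q : (pullback t t).Opens) (_ : Q = P (i, j)), Function.Surjective (d.app Q).hom := by
    rintro _ rfl; exact hs
  simp only [CommRingCat.hom_comp, RingHom.coe_comp]
  exact (ConcreteCategory.bijective_of_isIso _).2.comp (key _ (Scheme.Opens.ι_image_top _))

end Groth.Agent.Props12
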